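import Groth.Agent.EtaPt.Basic
import Mathlib.RingTheory.Ideal.GoingUp
import Mathlib.RingTheory.IntegralClosure.IntegralRestrict
import Mathlib.RingTheory.Localization.Integral
import Mathlib.RingTheory.SurjectiveOnStalks
import Mathlib.FieldTheory.IsAlgClosed.AlgebraicClosure

/-!
# The ring `M η A`: vanishing, integrality and the structure of its spectrum
-/

universe u

open EtaPt Groth.Agent.EtaPtLib
open scoped Polynomial

namespace Groth.Agent.EtaPtLib

variable (η : FieldEndo.{u}) {A B C : Type u} [CommRing A] [CommRing B] [CommRing C]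

/-- A valuation ring of `L` receiving `j` and lying over a prime containing `ker j`. -/
theorem exists_valuation {L : Type u} [Field L] (j : A →+* L) (p : Ideal A) [p.IsPrime]
    (hp : RingHom.ker j ≤ p) :
    ∃ (V : ValuationSubring L) (g : A →+* V), V.subtype.comp g = j ∧
      RingHom.ker ((IsLocalRing.residue V).comp g) = p := by
  have hu : ∀ y : p.primeCompl, IsUnit (j y) := fun y =>
    IsUnit.mk0 _ fun h => y.2 (hp h)
  obtain ⟨V, hV, hloc⟩ := IsLocalRing.exists_factor_valuationRing
    (IsLocalization.lift (M := p.primeCompl) (S := Localization.AtPrime p) hu)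
  let f' : Localization.AtPrime p →+* V :=
    (IsLocalization.lift (M := p.primeCompl) (S := Localization.AtPrime p) hu).codRestrict
      V.toSubring hV
  have hloc' : IsLocalHom f' := hloc
  refine ⟨V, f'.comp (algebraMap A _), RingHom.ext fun a => IsLocalization.lift_eq hu a, ?_⟩
  ext a
  rw [RingHom.mem_ker, RingHom.comp_apply, IsLocalRing.residue_eq_zero_iff, IsLocalRing.mem_maximalIdeal,
    mem_nonunits_iff, RingHom.comp_apply]
  have h1 : IsUnit (f' (algebraMap A (Localization.AtPrime p) a)) ↔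
      IsUnit (algebraMap A (Localization.AtPrime p) a) := ⟨fun h => hloc'.map_nonunit _ h, fun h => h.map f'⟩
  rw [h1, IsLocalization.AtPrime.isUnit_to_map_iff (Localization.AtPrime p) p]
  exact not_not

/-- The basic property of an element of `M η A` along a map to a valuation subring. -/
theorem exists_val_spec {x : η.N A} (hx : x ∈ η.M A) {L : Type u} [Field L]
    (hL : Function.Bijective (η.eta L)) (V : ValuationSubring L) (g : A →+* V) :
    ∃ r : V, ev η (V.subtype.comp g) x = η.eta L r ∧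
      ev η ((IsLocalRing.residue V).comp g) x = η.eta _ (IsLocalRing.residue V r) := by
  obtain ⟨r, hr⟩ := (mem_M_iff η x).mp hx V (inV_valuationSubring η V hL) g
  exact ⟨r, hr L V.subtype, hr _ (IsLocalRing.residue V)⟩

/-- The map `A → F(k(P))`. -/
noncomputable def etaPt (P : PrimeSpectrum A) : A →+* η.obj P.asIdeal.ResidueField :=
  (η.eta P.asIdeal.ResidueField).comp (algebraMap A _)

theorem ker_etaPt (P : PrimeSpectrum A) : RingHom.ker (etaPt η P) = P.asIdeal := by
  ext a; simp [etaPt]

theorem ev_etaPt (P : PrimeSpectrum A) (x : η.N A) :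
    ev η (etaPt η P) x = η.eta (η.obj P.asIdeal.ResidueField) (x P) := by
  rw [etaPt, ev_comp, ev_algebraMap, map_eta_eq]

/-- An element of `M η A` is determined by its components at minimal primes. -/
theorem M_eq_zero {x : η.N A} (hx : x ∈ η.M A)
    (h : ∀ P : PrimeSpectrum A, P.asIdeal ∈ minimalPrimes A → x P = 0) : x = 0 := by
  funext p
  obtain ⟨P, hP, hPp⟩ := Ideal.exists_minimalPrimes_le (bot_le : (⊥ : Ideal A) ≤ p.asIdeal)
  have := hP.1.1
  let P' : PrimeSpectrum A := ⟨P, this⟩
  obtain ⟨V, g, hg, hker⟩ := exists_valuation (etaPt η P') p.asIdeal (by rw [ker_etaPt]; exact hPp)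
  obtain ⟨r, h1, h2⟩ := exists_val_spec η hx (bijective_eta_obj η _) V g
  rw [hg, ev_etaPt, h P' hP, map_zero, eq_comm, map_eq_zero] at h1
  have hr : r = 0 := Subtype.ext h1
  rw [hr, map_zero, map_zero, ev_eq_zero_iff η _ p hker] at h2
  exact h2

theorem M_ext {x y : η.N A} (hx : x ∈ η.M A) (hy : y ∈ η.M A)
    (h : ∀ P : PrimeSpectrum A, P.asIdeal ∈ minimalPrimes A → x P = y P) : x = y :=
  sub_eq_zero.mp (M_eq_zero η (sub_mem hx hy) fun P hP => sub_eq_zero.mpr (h P hP))

theorem injective_eval_bot [IsDomain A] :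
    Set.InjOn (fun x : η.N A => x ⟨⊥, Ideal.isPrime_bot⟩) (η.M A) := by
  intro x hx y hy hxy
  refine M_ext η hx hy fun P hP => ?_
  obtain rfl : P = ⟨⊥, Ideal.isPrime_bot⟩ := by
    apply PrimeSpectrum.ext
    exact le_bot_iff.mp (hP.2 ⟨Ideal.isPrime_bot, le_rfl⟩ bot_le)
  exact hxy

/-- The component at `P` of an element of `M η A` is integral over `A`. -/
theorem isIntegralElem_component {x : η.N A} (hx : x ∈ η.M A) (P : PrimeSpectrum A) :
    (etaPt η P).IsIntegralElem (x P) := by
  letI : Algebra A (η.obj P.asIdeal.ResidueField) := (etaPt η P).toAlgebra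
  by_contra hc
  have hx' : x P ∉ (integralClosure A (η.obj P.asIdeal.ResidueField)).toSubring := hc
  obtain ⟨V, hV, hxV⟩ := Subring.exists_le_valuationSubring_of_isIntegrallyClosedIn hx'
  let g : A →+* V := (etaPt η P).codRestrict V.toSubring fun a => hV (isIntegral_algebraMap)
  obtain ⟨r, h1, -⟩ := exists_val_spec η hx (bijective_eta_obj η _) V g
  have : V.subtype.comp g = etaPt η P := rfl
  rw [this, ev_etaPt] at h1
  exact hxV (((η.eta (η.obj P.asIdeal.ResidueField)).injective h1).symm ▸ r.2)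

theorem eval₂_mem_M {f : A →+* η.N B} (hf : ∀ a, f a ∈ η.M B) {x : η.N B} (hx : x ∈ η.M B)
    (H : A[X]) : Polynomial.eval₂ f x H ∈ η.M B := by
  rw [Polynomial.eval₂_eq_sum_range]
  exact sum_mem fun i _ => mul_mem (hf _) (pow_mem hx i)

theorem exists_monic_of_mem_M (hA : (minimalPrimes A).Finite) {x : η.N A} (hx : x ∈ η.M A) :
    ∃ H : A[X], H.Monic ∧ Polynomial.eval₂ (η.t A) x H = 0 := by
  classical
  have h := fun P : PrimeSpectrum A => isIntegralElem_component η hx P
  choose H hH hH' using h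
  have hfin : {P : PrimeSpectrum A | P.asIdeal ∈ minimalPrimes A}.Finite :=
    hA.preimage fun P _ Q _ e => PrimeSpectrum.ext e
  refine ⟨∏ P ∈ hfin.toFinset, H P, Polynomial.monic_prod_of_monic _ _ fun P _ => hH P,
    M_eq_zero η (eval₂_mem_M η (η.t_mem_M A) hx _) fun P hP => ?_⟩
  rw [Polynomial.eval₂_finsetProd, Finset.prod_apply]
  refine Finset.prod_eq_zero (hfin.mem_toFinset.mpr hP) ?_
  show Pi.evalRingHom (fun p : PrimeSpectrum A => η.obj p.asIdeal.ResidueField) P
    (Polynomial.eval₂ (η.t A) x (H P)) = 0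
  rw [Polynomial.hom_eval₂]
  exact hH' P

theorem q_coe (a : A) : ((η.q A a : η.M A) : η.N A) = η.t A a := rfl

theorem eval₂_q_coe (x : η.M A) (H : A[X]) :
    ((Polynomial.eval₂ (η.q A) x H : η.M A) : η.N A) = Polynomial.eval₂ (η.t A) (x : η.N A) H := by
  rw [← Subring.coe_subtype, Polynomial.hom_eval₂]
  rfl

theorem isIntegral_q (hA : (minimalPrimes A).Finite) : (η.q A).IsIntegral := fun x => by
  obtain ⟨H, hm, hH⟩ := exists_monic_of_mem_M η hA x.2
  exact ⟨H, hm, Subtype.ext (by rw [eval₂_q_coe, hH]; rfl)⟩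

/-- Evaluation of `M η A` at `p`. -/
noncomputable def evM (p : PrimeSpectrum A) : η.M A →+* η.obj p.asIdeal.ResidueField :=
  (Pi.evalRingHom (fun p : PrimeSpectrum A => η.obj p.asIdeal.ResidueField) p).comp (η.M A).subtype

theorem evM_apply (p : PrimeSpectrum A) (x : η.M A) : evM η p x = (x : η.N A) p := rfl

theorem evM_comp_q (p : PrimeSpectrum A) : (evM η p).comp (η.q A) = etaPt η p := rfl

theorem eq_ker_evM (hA : (minimalPrimes A).Finite) (Q : PrimeSpectrum (η.M A)) :
    Q.asIdeal = RingHom.ker (evM η (PrimeSpectrum.comap (η.q A) Q)) := by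
  classical
  have hfin : {P : PrimeSpectrum A | P.asIdeal ∈ minimalPrimes A}.Finite :=
    hA.preimage fun P _ Q _ e => PrimeSpectrum.ext e
  have hle : hfin.toFinset.inf (fun P => RingHom.ker (evM η P)) ≤ Q.asIdeal := by
    intro x hx
    rw [Submodule.mem_finsetInf] at hx
    have : x = 0 := Subtype.ext (M_eq_zero η x.2 fun P hP => hx P (hfin.mem_toFinset.mpr hP))
    rw [this]; exact zero_mem _
  obtain ⟨P, -, hP⟩ := Q.isPrime.inf_le'.mp hle
  obtain ⟨V, g', hg', hker⟩ := exists_valuation (evM η P) Q.asIdeal hP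
  ext x
  obtain ⟨r, h1, h2⟩ := exists_val_spec η x.2 (bijective_eta_obj η _) V (g'.comp (η.q A))
  rw [← RingHom.comp_assoc, hg', evM_comp_q, ev_etaPt] at h1
  have hr : g' x = r := by
    have h3 := RingHom.congr_fun hg' x
    exact Subtype.ext (h3.trans ((η.eta _).injective h1))
  have hker' : RingHom.ker ((IsLocalRing.residue V).comp (g'.comp (η.q A))) =
      (PrimeSpectrum.comap (η.q A) Q).asIdeal := by
    rw [← RingHom.comp_assoc, ← RingHom.comap_ker, hker]
    rfl
  rw [RingHom.mem_ker, evM_apply, ← ev_eq_zero_iff η _ _ hker', h2, map_eq_zero, ← hr, ← hker]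
  rfl

theorem injective_comap_q (hA : (minimalPrimes A).Finite) :
    Function.Injective (PrimeSpectrum.comap (η.q A)) := fun Q Q' h =>
  PrimeSpectrum.ext (by rw [eq_ker_evM η hA Q, eq_ker_evM η hA Q', h])

theorem bijective_comap_of_bijective_Nmap (f : A →+* B) (hN : Function.Bijective (η.Nmap f)) :
    Function.Bijective (PrimeSpectrum.comap f) := by
  classical
  refine ⟨fun q q' h => ?_, fun p => ?_⟩
  · by_contra hne
    obtain ⟨x, hx⟩ := hN.2 (Pi.single q 1)
    have key : ∀ r : PrimeSpectrum B, PrimeSpectrum.comap f r = PrimeSpectrum.comap f q →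
        ((Pi.single q 1 : η.N B) r = 0 ↔ x (PrimeSpectrum.comap f q) = 0) := by
      intro r hr
      rw [← hx, ← hr]
      exact map_eq_zero (η.map _)
    have h1 := key q rfl
    have h2 := key q' h.symm
    rw [Pi.single_eq_same] at h1
    rw [Pi.single_eq_of_ne (Ne.symm hne)] at h2
    exact one_ne_zero (h1.mpr (h2.mp rfl))
  · by_contra hp
    push Not at hp
    have h0 : η.Nmap f (Pi.single p 1) = η.Nmap f 0 := by
      rw [map_zero]
      funext q
      change η.map _ ((Pi.single p (1 : η.obj p.asIdeal.ResidueField) : η.N A) (PrimeSpectrum.comap f q)) = 0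
      rw [Pi.single_eq_of_ne (hp q), map_zero]
    have := congrFun (hN.1 h0) p
    simp at this

theorem bijective_component_of_bijective_Nmap (f : A →+* B) (hN : Function.Bijective (η.Nmap f))
    (q : PrimeSpectrum B) :
    Function.Bijective (η.map (Ideal.ResidueField.map (PrimeSpectrum.comap f q).asIdeal q.asIdeal f rfl)) := by
  classical
  refine ⟨RingHom.injective _, fun y => ?_⟩
  obtain ⟨x, hx⟩ := hN.2 (Pi.single q y)
  exact ⟨x _, (congrFun hx q).trans (by simp)⟩

theorem injective_Nmap (f : A →+* B) (hs : Function.Surjective (PrimeSpectrum.comap f)) :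
    Function.Injective (η.Nmap f) := by
  refine (injective_iff_map_eq_zero _).mpr fun x hx => funext fun p => ?_
  obtain ⟨q, rfl⟩ := hs p
  have h1 : η.map (Ideal.ResidueField.map (PrimeSpectrum.comap f q).asIdeal q.asIdeal f rfl)
      (x (PrimeSpectrum.comap f q)) = 0 := congrFun hx q
  exact (map_eq_zero _).mp h1

theorem surjective_Nmap (f : A →+* B) (hi : Function.Injective (PrimeSpectrum.comap f))
    (hb : ∀ q : PrimeSpectrum B, Function.Bijective
      (η.map (Ideal.ResidueField.map (PrimeSpectrum.comap f q).asIdeal q.asIdeal f rfl))) :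
    Function.Surjective (η.Nmap f) := by
  intro y
  have : ∀ p : PrimeSpectrum A, ∃ z : η.obj p.asIdeal.ResidueField, ∀ (q : PrimeSpectrum B)
      (hq : PrimeSpectrum.comap f q = p),
      η.map (Ideal.ResidueField.map p.asIdeal q.asIdeal f (hq ▸ rfl)) z = y q := by
    intro p
    by_cases hp : ∃ q, PrimeSpectrum.comap f q = p
    · obtain ⟨q, rfl⟩ := hp
      obtain ⟨z, hz⟩ := (hb q).2 (y q)
      refine ⟨z, fun q' hq' => ?_⟩
      obtain rfl := hi hq'
      exact hz
    · exact ⟨0, fun q hq => (hp ⟨q, hq⟩).elim⟩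
  choose z hz using this
  exact ⟨z, funext fun q => hz _ q rfl⟩

theorem surjective_Nmap_of_surjectiveOnStalks (f : A →+* B)
    (hi : Function.Injective (PrimeSpectrum.comap f)) (hf : f.SurjectiveOnStalks) :
    Function.Surjective (η.Nmap f) :=
  surjective_Nmap η f hi fun q =>
    bijective_map_of_bijective η _ (hf.residueFieldMap_bijective _ _ rfl)

/-- Consequences of having a map `C → N η A` extending `t_A`, with `Spec C → Spec A` injective. -/
theorem of_retraction (h : A →+* C) (σ : C →+* η.N A) (hσ : σ.comp h = η.t A)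
    (hinj : Function.Injective (PrimeSpectrum.comap h)) :
    Function.Bijective (PrimeSpectrum.comap h) ∧
    (∀ Q : PrimeSpectrum C, ∃ φ : Q.asIdeal.ResidueField →+*
        η.obj (PrimeSpectrum.comap h Q).asIdeal.ResidueField,
      φ.comp (Ideal.ResidueField.map (PrimeSpectrum.comap h Q).asIdeal Q.asIdeal h rfl) =
        η.eta (PrimeSpectrum.comap h Q).asIdeal.ResidueField) ∧
    Function.Bijective (η.Nmap h) ∧ ∀ c, η.Nmap h (σ c) = η.t C c := by
  let e : ∀ p : PrimeSpectrum A, C →+* η.obj p.asIdeal.ResidueField := fun p =>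
    (Pi.evalRingHom (fun p : PrimeSpectrum A => η.obj p.asIdeal.ResidueField) p).comp σ
  have he : ∀ p, (e p).comp h = etaPt η p := fun p => by
    rw [RingHom.comp_assoc, hσ]; rfl
  have hcomap : ∀ p, PrimeSpectrum.comap h (kerPt (e p)) = p := fun p => by
    apply PrimeSpectrum.ext
    change Ideal.comap h (RingHom.ker (e p)) = p.asIdeal
    rw [RingHom.comap_ker, he, ker_etaPt]
  have hker : ∀ Q, RingHom.ker (e (PrimeSpectrum.comap h Q)) = Q.asIdeal := fun Q =>
    congrArg PrimeSpectrum.asIdeal (hinj (hcomap (PrimeSpectrum.comap h Q)))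
  have hφ : ∀ Q : PrimeSpectrum C,
      (rfLift (e (PrimeSpectrum.comap h Q)) Q.asIdeal (hker Q)).comp
        (Ideal.ResidueField.map (PrimeSpectrum.comap h Q).asIdeal Q.asIdeal h rfl) =
      η.eta (PrimeSpectrum.comap h Q).asIdeal.ResidueField := fun Q =>
    residueField_hom_ext <| RingHom.ext fun a =>
      ((congrArg (rfLift _ _ (hker Q)) (Ideal.ResidueField.map_algebraMap ..)).trans
        (rfLift_algebraMap _ _ (hker Q) (h a))).trans (RingHom.congr_fun (he _) a)
  have hb : Function.Bijective (PrimeSpectrum.comap h) := ⟨hinj, fun p => ⟨_, hcomap p⟩⟩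
  refine ⟨hb, fun Q => ⟨_, hφ Q⟩, ⟨injective_Nmap η h hb.2,
    surjective_Nmap η h hinj fun Q => (map_of_factor η _ _ (hφ Q)).1⟩, fun c => funext fun Q => ?_⟩
  have := RingHom.congr_fun (map_of_factor η _ _ (hφ Q)).2 (algebraMap C _ c)
  rw [RingHom.comp_apply, rfLift_algebraMap] at this
  exact this

theorem q_retraction (hA : (minimalPrimes A).Finite) :
    Function.Bijective (PrimeSpectrum.comap (η.q A)) ∧
    (∀ Q : PrimeSpectrum (η.M A), ∃ φ : Q.asIdeal.ResidueField →+*
        η.obj (PrimeSpectrum.comap (η.q A) Q).asIdeal.ResidueField,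
      φ.comp (Ideal.ResidueField.map (PrimeSpectrum.comap (η.q A) Q).asIdeal Q.asIdeal (η.q A) rfl) =
        η.eta (PrimeSpectrum.comap (η.q A) Q).asIdeal.ResidueField) ∧
    Function.Bijective (η.Nmap (η.q A)) ∧
      ∀ c : η.M A, η.Nmap (η.q A) (c : η.N A) = η.t (η.M A) c :=
  of_retraction η (η.q A) (η.M A).subtype rfl (injective_comap_q η hA)

/-- Maps to a field are rigid along `g` when `N(g)` is bijective. -/
theorem hom_ext_of_bijective_Nmap (g : A →+* B) (hN : Function.Bijective (η.Nmap g))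
    {E : Type u} [Field E] (h₁ h₂ : B →+* E) (h : h₁.comp g = h₂.comp g) : h₁ = h₂ := by
  have hQ : kerPt h₂ = kerPt h₁ := (bijective_comap_of_bijective_Nmap η g hN).1 <| by
    apply PrimeSpectrum.ext
    change Ideal.comap g (RingHom.ker h₂) = Ideal.comap g (RingHom.ker h₁)
    rw [RingHom.comap_ker, RingHom.comap_ker, h]
  have hk : RingHom.ker h₂ = (kerPt h₁).asIdeal := congrArg PrimeSpectrum.asIdeal hQ
  have key := ext_of_bijective_map η _ (bijective_component_of_bijective_Nmap η g hN (kerPt h₁))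
    (rfLift h₁ _ (kerPt_ker h₁)) (rfLift h₂ _ hk) <| residueField_hom_ext <| RingHom.ext fun a =>
      ((congrArg (rfLift h₁ _ (kerPt_ker h₁)) (Ideal.ResidueField.map_algebraMap ..)).trans
        (rfLift_algebraMap h₁ _ (kerPt_ker h₁) (g a))).trans
      ((RingHom.congr_fun h a).trans
      ((congrArg (rfLift h₂ _ hk) (Ideal.ResidueField.map_algebraMap ..)).trans
        (rfLift_algebraMap h₂ _ hk (g a))).symm)
  calc h₁ = (rfLift h₁ _ (kerPt_ker h₁)).comp (algebraMap B _) := (rfLift_comp ..).symm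
    _ = h₂ := by rw [key]; exact rfLift_comp h₂ _ hk

theorem comap_surjective_of_isIntegral_of_nil (f : A →+* B) (hf : f.IsIntegral)
    (hk : ∀ a, f a = 0 → IsNilpotent a) : Function.Surjective (PrimeSpectrum.comap f) := by
  intro p
  letI := f.toAlgebra
  haveI : Algebra.IsIntegral A B := ⟨hf⟩
  obtain ⟨Q, -, hQ, hQp⟩ := Ideal.exists_ideal_over_prime_of_isIntegral p.asIdeal (⊥ : Ideal B)
    (fun a ha => (nilpotent_iff_mem_prime.mp (hk a ha)) _ p.isPrime)
  exact ⟨⟨Q, hQ⟩, PrimeSpectrum.ext hQp⟩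

end Groth.Agent.EtaPtLib
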