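import Groth.Agent.EtaPt.Rel
import Groth.Prelude.Def_HTop2
import Mathlib.AlgebraicGeometry.Morphisms.Integral
import Mathlib.AlgebraicGeometry.Morphisms.UniversallyInjective
import Mathlib.RingTheory.LocalRing.ResidueField.Ideal
import Mathlib.FieldTheory.PurelyInseparable.Basic

/-!
# Universal homeomorphisms of affine schemes with trivial residue extensions
-/

universe u

open AlgebraicGeometry CategoryTheory

namespace Groth.Agent.EtaPtLib

variable {A B : Type u} [CommRing A] [CommRing B]

theorem isUnivHomeo_of_isIntegralHom {X Y : Scheme.{u}} (f : X ⟶ Y) [IsIntegralHom f]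
    [UniversallyInjective f] [Surjective f] : FlatMor.IsUnivHomeo f := by
  intro X' Y' i₁ i₂ f' h
  haveI : IsIntegralHom f' := MorphismProperty.of_isPullback h.flip inferInstance
  haveI : UniversallyInjective f' := MorphismProperty.of_isPullback h.flip inferInstance
  haveI : Surjective f' := MorphismProperty.of_isPullback h.flip inferInstance
  exact isHomeomorph_iff_continuous_isClosedMap_bijective.mpr
    ⟨f'.continuous, f'.isClosedMap, f'.injective, f'.surjective⟩

theorem isIntegral_of_isUnivHomeo (φ : A →+* B)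
    (h : FlatMor.IsUnivHomeo (Spec.map (CommRingCat.ofHom φ))) :
    φ.IsIntegral ∧ Function.Bijective (PrimeSpectrum.comap φ) := by
  refine ⟨?_, ?_⟩
  · have hc : UniversallyClosed (Spec.map (CommRingCat.ofHom φ)) :=
      ⟨fun X' Y' i₁ i₂ f' hf => (h i₁ i₂ f' hf).isClosedMap⟩
    exact IsIntegralHom.SpecMap_iff.mp (IsIntegralHom.iff_universallyClosed_and_isAffineHom.mpr ⟨hc, inferInstance⟩)
  · exact (h (𝟙 _) (𝟙 _) (Spec.map (CommRingCat.ofHom φ)) IsPullback.of_id_fst.flip).bijective

theorem residueFieldIso_inv_algebraMap (R : CommRingCat.{u}) (x : PrimeSpectrum R) (a : R) :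
    (Scheme.Spec.residueFieldIso R x).inv (algebraMap R x.asIdeal.ResidueField a) =
      (Spec R).Γevaluation x ((Scheme.ΓSpecIso R).inv a) :=
  ConcreteCategory.congr_hom (Scheme.Spec.algebraMap_residueFieldIso_inv R x) a

theorem residueFieldMap_Γevaluation {R S : CommRingCat.{u}} (φ : R ⟶ S) (x : Spec S) (a : R) :
    (Spec.map φ).residueFieldMap x ((Spec R).Γevaluation (Spec.map φ x) ((Scheme.ΓSpecIso R).inv a)) =
      (Spec S).Γevaluation x ((Scheme.ΓSpecIso S).inv (φ a)) :=
  (Scheme.Γevaluation_naturality_apply (Spec.map φ) x _).trans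
    (congrArg _ (ConcreteCategory.congr_hom (Scheme.ΓSpecIso_inv_naturality φ) a).symm)

theorem residueFieldMap_residueFieldIso {R S : CommRingCat.{u}} (φ : R ⟶ S) (Q : PrimeSpectrum S)
    (a : R) :
    (Spec.map φ).residueFieldMap Q ((Scheme.Spec.residueFieldIso R (PrimeSpectrum.comap φ.hom Q)).inv
      (algebraMap R (PrimeSpectrum.comap φ.hom Q).asIdeal.ResidueField a)) =
    (Scheme.Spec.residueFieldIso S Q).inv (algebraMap S Q.asIdeal.ResidueField (φ a)) :=
  (congrArg _ (residueFieldIso_inv_algebraMap R (PrimeSpectrum.comap φ.hom Q) a)).trans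
    ((residueFieldMap_Γevaluation φ Q a).trans (residueFieldIso_inv_algebraMap S Q (φ a)).symm)

theorem bijective_residueField_map_iff' {R S : CommRingCat.{u}} (φ : R ⟶ S) (Q : PrimeSpectrum S) :
    IsIso ((Spec.map φ).residueFieldMap Q) ↔ Function.Bijective
      (Ideal.ResidueField.map (PrimeSpectrum.comap φ.hom Q).asIdeal Q.asIdeal φ.hom rfl) := by
  have key : ∀ z, (Spec.map φ).residueFieldMap Q
      ((Scheme.Spec.residueFieldIso R (PrimeSpectrum.comap φ.hom Q)).inv z) =
      (Scheme.Spec.residueFieldIso S Q).inv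
        (Ideal.ResidueField.map (PrimeSpectrum.comap φ.hom Q).asIdeal Q.asIdeal φ.hom rfl z) := by
    have h : ((Spec.map φ).residueFieldMap Q).hom.comp
        (Scheme.Spec.residueFieldIso R (PrimeSpectrum.comap φ.hom Q)).inv.hom =
        (Scheme.Spec.residueFieldIso S Q).inv.hom.comp
          (Ideal.ResidueField.map (PrimeSpectrum.comap φ.hom Q).asIdeal Q.asIdeal φ.hom rfl) :=
      residueField_hom_ext (RingHom.ext fun a => (residueFieldMap_residueFieldIso φ Q a).trans
        (congrArg _ (Ideal.ResidueField.map_algebraMap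
          (PrimeSpectrum.comap φ.hom Q).asIdeal Q.asIdeal φ.hom rfl a).symm))
    exact RingHom.congr_fun h
  refine (ConcreteCategory.isIso_iff_bijective _).trans ?_
  have hA := ConcreteCategory.bijective_of_isIso
    (Scheme.Spec.residueFieldIso R (PrimeSpectrum.comap φ.hom Q)).inv
  have hB := ConcreteCategory.bijective_of_isIso (Scheme.Spec.residueFieldIso S Q).inv
  refine (Function.Bijective.of_comp_iff _ hA).symm.trans ?_
  rw [show _ ∘ _ = _ from funext key]
  exact Function.Bijective.of_comp_iff' hB _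

theorem bijective_residueField_map_iff (φ : A →+* B) (Q : PrimeSpectrum B) :
    IsIso ((Spec.map (CommRingCat.ofHom φ)).residueFieldMap Q) ↔ Function.Bijective
      (Ideal.ResidueField.map (PrimeSpectrum.comap φ Q).asIdeal Q.asIdeal φ rfl) :=
  bijective_residueField_map_iff' (CommRingCat.ofHom φ) Q

theorem residueFieldsIso_iff (φ : A →+* B) :
    HTop.ResidueFieldsIso (Spec.map (CommRingCat.ofHom φ)) ↔ ∀ Q : PrimeSpectrum B,
      Function.Bijective (Ideal.ResidueField.map (PrimeSpectrum.comap φ Q).asIdeal Q.asIdeal φ rfl) :=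
  forall_congr' (bijective_residueField_map_iff φ)

/-- An integral ring map, bijective on spectra and with trivial residue field extensions, gives a
universal homeomorphism. -/
theorem isUnivHomeo_and_residueFieldsIso (φ : A →+* B) (hφ : φ.IsIntegral)
    (hb : Function.Bijective (PrimeSpectrum.comap φ))
    (hr : ∀ Q : PrimeSpectrum B,
      Function.Bijective (Ideal.ResidueField.map (PrimeSpectrum.comap φ Q).asIdeal Q.asIdeal φ rfl)) :
    FlatMor.IsUnivHomeo (Spec.map (CommRingCat.ofHom φ)) ∧
      HTop.ResidueFieldsIso (Spec.map (CommRingCat.ofHom φ)) := by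
  have hres := (residueFieldsIso_iff φ).mpr hr
  haveI : IsIntegralHom (Spec.map (CommRingCat.ofHom φ)) := IsIntegralHom.SpecMap_iff.mpr hφ
  haveI : Surjective (Spec.map (CommRingCat.ofHom φ)) := ⟨hb.2⟩
  haveI : UniversallyInjective (Spec.map (CommRingCat.ofHom φ)) := by
    suffices h3 : Function.Injective (Spec.map (CommRingCat.ofHom φ)) ∧ ∀ x,
        ((Spec.map (CommRingCat.ofHom φ)).residueFieldMap x).hom.IsPurelyInseparable from
      (List.TFAE.out (tfae_universallyInjective (Spec.map (CommRingCat.ofHom φ))) 0 2).mpr h3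
    refine ⟨hb.1, fun x => ?_⟩
    haveI := hres x
    let r := ((Spec.map (CommRingCat.ofHom φ)).residueFieldMap x).hom
    have hsurj : Function.Surjective r := (ConcreteCategory.bijective_of_isIso _).2
    letI := r.toAlgebra
    exact ⟨⟨RingHom.isIntegral_of_surjective r hsurj⟩, fun z _ => hsurj z⟩
  exact ⟨isUnivHomeo_of_isIntegralHom _, hres⟩

end Groth.Agent.EtaPtLib

namespace Groth.Agent.EtaPtLib

open EtaPt

variable {A B : Type u} [CommRing A] [CommRing B]

theorem ident_bijective_of_factor (φ : A →+* B) (hb : Function.Bijective (PrimeSpectrum.comap φ))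
    (hN : Function.Bijective (FieldEndo.ident.{u}.Nmap φ)) (Q : PrimeSpectrum B) :
    Function.Bijective (Ideal.ResidueField.map (PrimeSpectrum.comap φ Q).asIdeal Q.asIdeal φ rfl) :=
  bijective_component_of_bijective_Nmap FieldEndo.ident φ hN Q

theorem integral_and_bijective_Nmap_of_isUnivHomeo (φ : A →+* B)
    (h : FlatMor.IsUnivHomeo (Spec.map (CommRingCat.ofHom φ)))
    (hr : HTop.ResidueFieldsIso (Spec.map (CommRingCat.ofHom φ))) :
    φ.IsIntegral ∧ Function.Bijective (FieldEndo.ident.{u}.Nmap φ) := by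
  obtain ⟨hint, hb⟩ := isIntegral_of_isUnivHomeo φ h
  exact ⟨hint, injective_Nmap _ φ hb.2,
    surjective_Nmap FieldEndo.ident φ hb.1 ((residueFieldsIso_iff φ).mp hr)⟩

theorem isRingSN_q (hA : (minimalPrimes A).Finite) : HTop.IsRingSN (FieldEndo.ident.{u}.q A) := by
  obtain ⟨hb, -, hN, -⟩ := q_retraction FieldEndo.ident hA
  refine ⟨isUnivHomeo_and_residueFieldsIso _ (isIntegral_q _ hA) hb
    (ident_bijective_of_factor _ hb hN), fun C _ ψ h1 h2 => ?_⟩
  obtain ⟨hint, hψ⟩ := integral_and_bijective_Nmap_of_isUnivHomeo ψ h1 h2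
  exact existsUnique_lift FieldEndo.ident ψ hint hψ

theorem rel_ident_isSeminormalization [Algebra A B] (hA : (minimalPrimes A).Finite)
    (hs : Function.Surjective (PrimeSpectrum.comap (algebraMap A B))) :
    (FlatMor.IsUnivHomeo (Spec.map (CommRingCat.ofHom (FieldEndo.ident.{u}.qRel (algebraMap A B)))) ∧
      HTop.ResidueFieldsIso (Spec.map (CommRingCat.ofHom (FieldEndo.ident.{u}.qRel (algebraMap A B))))) ∧
    ∀ C : Subalgebra A B,
      FlatMor.IsUnivHomeo (Spec.map (CommRingCat.ofHom (algebraMap A C))) →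
      HTop.ResidueFieldsIso (Spec.map (CommRingCat.ofHom (algebraMap A C))) →
      C.toSubring ≤ FieldEndo.ident.{u}.rel (algebraMap A B) := by
  obtain ⟨hb, -, hN⟩ := qRel_retraction FieldEndo.ident hA (algebraMap A B) hs
  refine ⟨isUnivHomeo_and_residueFieldsIso _ (isIntegral_qRel _ hA _) hb
    (ident_bijective_of_factor _ hb hN), fun C h1 h2 c hc => ?_⟩
  obtain ⟨hint, hC⟩ := integral_and_bijective_Nmap_of_isUnivHomeo (algebraMap A C) h1 h2
  exact range_le_rel FieldEndo.ident (algebraMap A C) C.val.toRingHom hint hC ⟨⟨c, hc⟩, rfl⟩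

end Groth.Agent.EtaPtLib
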