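import Groth.Agent.EtaPt.Rel
import Mathlib.RingTheory.Localization.Away.Basic
import Mathlib.RingTheory.Localization.Integral

/-!
# `M η` and `rel η` commute with localization at an element
-/

universe u

open EtaPt Groth.Agent.EtaPtLib
open scoped Polynomial

namespace Groth.Agent.EtaPtLib

variable (η : FieldEndo.{u}) {A B : Type u} [CommRing A] [CommRing B]

theorem finite_minimalPrimes_localization (S : Submonoid A) (T : Type u) [CommRing T] [Algebra A T]
    [IsLocalization S T] (hA : (minimalPrimes A).Finite) : (minimalPrimes T).Finite := by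
  refine Set.Finite.of_finite_image (f := Ideal.comap (algebraMap A T)) (hA.subset ?_) ?_
  · rintro - ⟨Q, hQ, rfl⟩
    haveI := hQ.1.1
    refine ⟨⟨inferInstance, bot_le⟩, fun P hP hle => ?_⟩
    haveI := hP.1
    have hdisj : Disjoint (S : Set A) P := Set.disjoint_left.mpr fun s hs hsP =>
      hQ.1.1.ne_top (Ideal.eq_top_of_isUnit_mem _ (hle hsP) (IsLocalization.map_units T ⟨s, hs⟩))
    have h1 := hQ.2 ⟨IsLocalization.isPrime_of_isPrime_disjoint S T P hP.1 hdisj, bot_le⟩
      (Ideal.map_le_iff_le_comap.mpr hle)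
    calc Q.comap (algebraMap A T) ≤ (P.map (algebraMap A T)).comap (algebraMap A T) := Ideal.comap_mono h1
      _ = P := IsLocalization.comap_map_of_isPrime_disjoint S T hP.1 hdisj
  · intro Q _ Q' _ h
    exact (IsLocalization.map_comap S T Q).symm.trans ((congrArg (Ideal.map (algebraMap A T)) h).trans
      (IsLocalization.map_comap S T Q'))

theorem valuationRing_of_isLocalization {R T : Type u} [CommRing R] [IsDomain R] [ValuationRing R]
    [CommRing T] [IsDomain T] [Algebra R T] (S : Submonoid R) [IsLocalization S T] : ValuationRing T := by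
  refine ValuationRing.iff_dvd_total.mpr ⟨fun x y => ?_⟩
  obtain ⟨a, s, rfl⟩ := IsLocalization.exists_mk'_eq S x
  obtain ⟨b, t, rfl⟩ := IsLocalization.exists_mk'_eq S y
  have hx : Associated (algebraMap R T a) (IsLocalization.mk' T a s) :=
    (Associated.of_eq (IsLocalization.mk'_spec T a s).symm).trans
      (associated_mul_unit_right (IsLocalization.mk' T a s) _ (IsLocalization.map_units T s)).symm
  have hy : Associated (algebraMap R T b) (IsLocalization.mk' T b t) :=
    (Associated.of_eq (IsLocalization.mk'_spec T b t).symm).trans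
      (associated_mul_unit_right (IsLocalization.mk' T b t) _ (IsLocalization.map_units T t)).symm
  rcases ValuationRing.dvd_total a b with h | h
  · exact .inl (hx.dvd_iff_dvd_left.mp (hy.dvd_iff_dvd_right.mp (map_dvd _ h)))
  · exact .inr (hy.dvd_iff_dvd_left.mp (hx.dvd_iff_dvd_right.mp (map_dvd _ h)))

theorem surjective_Nmap_away (f : A) :
    Function.Surjective (η.Nmap (algebraMap A (Localization.Away f))) :=
  surjective_Nmap_of_surjectiveOnStalks η _
    (PrimeSpectrum.localization_comap_injective _ (Submonoid.powers f))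
    (RingHom.surjectiveOnStalks_of_isLocalization (Submonoid.powers f) (Localization.Away f))

theorem t_mul_eq_zero_of_Nmap_eq_zero (f : A) {x : η.N A}
    (h : η.Nmap (algebraMap A (Localization.Away f)) x = 0) : η.t A f * x = 0 := by
  funext p
  by_cases hf : f ∈ p.asIdeal
  · have : algebraMap A p.asIdeal.ResidueField f = 0 := Ideal.algebraMap_residueField_eq_zero.mpr hf
    change η.eta _ (algebraMap A p.asIdeal.ResidueField f) * x p = 0
    rw [this, map_zero, zero_mul]
  · obtain ⟨q, rfl⟩ : p ∈ Set.range (PrimeSpectrum.comap (algebraMap A (Localization.Away f))) := by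
      rw [PrimeSpectrum.localization_away_comap_range (Localization.Away f) f]; exact hf
    have h1 : η.map _ (x _) = 0 := congrFun h q
    change η.t A f _ * x _ = 0
    rw [(map_eq_zero _).mp h1, mul_zero]

theorem exists_mem_M_away (hA : (minimalPrimes A).Finite) (f : A) {y : η.N (Localization.Away f)}
    (hy : y ∈ η.M (Localization.Away f)) : ∃ x ∈ η.M A, ∃ n : ℕ,
      y * η.t (Localization.Away f) (algebraMap A (Localization.Away f) f) ^ n =
        η.Nmap (algebraMap A (Localization.Away f)) x := by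
  set Af := Localization.Away f
  obtain ⟨H, hH, hH'⟩ := exists_monic_of_mem_M η
    (finite_minimalPrimes_localization (Submonoid.powers f) Af hA) hy
  letI : Algebra Af (η.N Af) := (η.t Af).toAlgebra
  letI : Algebra A (η.N Af) := ((η.t Af).comp (algebraMap A Af)).toAlgebra
  haveI : IsScalarTower A Af (η.N Af) := IsScalarTower.of_algebraMap_eq fun _ => rfl
  obtain ⟨⟨_, n, rfl⟩, hint⟩ := IsIntegral.exists_multiple_integral_of_isLocalization
    (R := A) (Submonoid.powers f) y (⟨H, hH, hH'⟩ : IsIntegral Af y)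
  obtain ⟨G, hG, hG'⟩ := hint
  rw [Submonoid.smul_def, Algebra.smul_def, RingHom.algebraMap_toAlgebra] at hG'
  obtain ⟨x₀, hx₀⟩ := surjective_Nmap_away η f (y * η.t Af (algebraMap A Af f) ^ n)
  refine ⟨η.t A f * x₀, ?_, n + 1, by rw [map_mul, Nmap_t, hx₀, pow_succ]; ring⟩
  refine (mem_M_iff η _).mpr fun R _ _ _ hR g => ?_
  by_cases hgf : g f = 0
  · refine ⟨0, fun K _ h => ?_⟩
    rw [map_mul, ev_t, RingHom.comp_apply, hgf, map_zero, map_zero, zero_mul]
  let R₁ := Localization.Away (g f)
  have hle : Submonoid.powers (g f) ≤ nonZeroDivisors R :=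
    powers_le_nonZeroDivisors_of_noZeroDivisors hgf
  haveI : IsDomain R₁ := IsLocalization.isDomain_localization hle
  haveI : ValuationRing R₁ := valuationRing_of_isLocalization (Submonoid.powers (g f))
  let K₀ := FractionRing R
  let ι : R₁ →+* K₀ := IsLocalization.lift (M := Submonoid.powers (g f)) (g := algebraMap R K₀)
    fun u => IsLocalization.map_units K₀ (⟨u, hle u.2⟩ : nonZeroDivisors R)
  letI : Algebra R₁ K₀ := ι.toAlgebra
  haveI : IsScalarTower R R₁ K₀ :=
    IsScalarTower.of_algebraMap_eq fun a => (IsLocalization.lift_eq _ a).symm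
  haveI : IsFractionRing R₁ K₀ :=
    IsFractionRing.isFractionRing_of_isDomain_of_isLocalization (Submonoid.powers (g f)) R₁ K₀
  have hR₁ : η.InV R₁ := inV_of_fraction η R₁ K₀ hR
  let g₁ : Af →+* R₁ := Localization.awayMap g f
  obtain ⟨r₁, hr₁⟩ := (mem_M_iff η y).mp hy R₁ hR₁ g₁
  have hg₁ : ∀ a, g₁ (algebraMap A Af a) = algebraMap R R₁ (g a) := fun a => IsLocalization.map_eq _ a
  have hev : ∀ (K : Type u) [Field K] (h₁ : R₁ →+* K),
      ev η (h₁.comp g₁) (y * η.t Af (algebraMap A Af f) ^ n) =
        η.eta K (h₁ (r₁ * algebraMap R R₁ (g f) ^ n)) := fun K _ h₁ => by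
    rw [map_mul, hr₁, map_pow, ev_t, RingHom.comp_apply, hg₁, ← map_pow, ← map_pow, ← map_mul, ← map_mul]
  obtain ⟨s, hs⟩ : ∃ s, algebraMap R K₀ s = ι (r₁ * algebraMap R R₁ (g f) ^ n) := by
    haveI := isIntegrallyClosed_of_valuationRing R
    refine IsIntegrallyClosed.isIntegral_iff.mp ⟨G.map g, hG.map g, (η.eta K₀).injective ?_⟩
    have h1 := congrArg (ev η (ι.comp g₁)) hG'
    rw [Polynomial.hom_eval₂, map_zero] at h1
    rw [map_zero, Polynomial.eval₂_map, Polynomial.hom_eval₂, ← hev K₀ ι, mul_comm,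
      show (η.eta K₀).comp ((algebraMap R K₀).comp g) =
        (ev η (ι.comp g₁)).comp ((η.t Af).comp (algebraMap A Af)) from RingHom.ext fun a => by
          simp [ev_t, hg₁, ι]]
    simpa using h1
  have hs' : algebraMap R R₁ s = r₁ * algebraMap R R₁ (g f) ^ n := by
    refine IsFractionRing.injective R₁ K₀ ?_
    rw [← IsScalarTower.algebraMap_apply]
    exact hs
  refine ⟨g f * s, fun K _ h => ?_⟩
  rw [map_mul, ev_t, RingHom.comp_apply, map_mul h, map_mul (η.eta K)]
  by_cases hh : h (g f) = 0
  · rw [hh, map_zero, zero_mul, zero_mul]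
  congr 1
  let h₁ : R₁ →+* K := IsLocalization.Away.lift (g f) (IsUnit.mk0 _ hh)
  have h2 : h₁.comp (algebraMap R R₁) = h := IsLocalization.Away.lift_comp _ _
  have h3 : (h₁.comp g₁).comp (algebraMap A Af) = h.comp g := by
    ext a
    simp only [RingHom.comp_apply, hg₁]
    exact RingHom.congr_fun h2 (g a)
  rw [← h3, ← ev_Nmap, hx₀, hev, ← hs']
  exact congrArg _ (RingHom.congr_fun h2 s)

theorem rel_away (hA : (minimalPrimes A).Finite) (φ : A →+* B) (f : A) :
    (η.rel φ).map (algebraMap B (Localization.Away (φ f))) ≤ η.rel (Localization.awayMap φ f) ∧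
      ∀ y ∈ η.rel (Localization.awayMap φ f), ∃ x ∈ η.rel φ, ∃ n : ℕ,
        y * algebraMap B (Localization.Away (φ f)) (φ f) ^ n = algebraMap B (Localization.Away (φ f)) x := by
  have hcomm : (Localization.awayMap φ f).comp (algebraMap A (Localization.Away f)) =
      (algebraMap B (Localization.Away (φ f))).comp φ :=
    RingHom.ext fun a => by
      simp [Localization.awayMap, IsLocalization.Away.map, IsLocalization.map_eq]
  refine ⟨?_, fun y hy => ?_⟩
  · rintro - ⟨b, hb, rfl⟩
    obtain ⟨x, hx, hxb⟩ := (mem_rel_iff η φ b).mp hb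
    exact (mem_rel_iff η _ _).mpr ⟨_, Nmap_mem_M η (algebraMap A (Localization.Away f)) hx, by
      rw [← Nmap_comp, hcomm, Nmap_comp, hxb, Nmap_t]⟩
  obtain ⟨z, hz, hzy⟩ := (mem_rel_iff η _ y).mp hy
  obtain ⟨x, hx, n, hxz⟩ := exists_mem_M_away η hA f hz
  obtain ⟨k, b, hb⟩ := IsLocalization.Away.surj (φ f) y
  set F := algebraMap B (Localization.Away (φ f)) (φ f) with hF
  have hF' : Localization.awayMap φ f (algebraMap A _ f) = F := RingHom.congr_fun hcomm f
  have h1 : η.Nmap (algebraMap B (Localization.Away (φ f)))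
      (η.Nmap φ (x * η.t A f ^ k) - η.t B (b * φ f ^ n)) = 0 := by
    have e1 : η.Nmap (algebraMap B (Localization.Away (φ f))) (η.Nmap φ (x * η.t A f ^ k)) =
        η.t _ y * η.t _ F ^ n * η.t _ F ^ k := by
      rw [← Nmap_comp η (algebraMap B (Localization.Away (φ f))) φ, ← hcomm,
        Nmap_comp η (Localization.awayMap φ f) (algebraMap A (Localization.Away f)),
        map_mul (η.Nmap (algebraMap A _)), map_pow (η.Nmap (algebraMap A _)), ← hxz,
        Nmap_t η (algebraMap A (Localization.Away f)) f, map_mul, map_mul, map_pow, map_pow, hzy,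
        Nmap_t η (Localization.awayMap φ f) (algebraMap A _ f), hF']
    have e2 : η.Nmap (algebraMap B (Localization.Away (φ f))) (η.t B (b * φ f ^ n)) =
        η.t _ y * η.t _ F ^ n * η.t _ F ^ k := by
      rw [Nmap_t η (algebraMap B (Localization.Away (φ f))) (b * φ f ^ n),
        ← map_pow (η.t _), ← map_pow (η.t _), ← map_mul (η.t _), ← map_mul (η.t _)]
      refine congrArg _ ?_
      rw [map_mul, map_pow, ← hF, ← hb]
      exact mul_right_comm _ _ _
    rw [map_sub, e1, e2, sub_self]
  have h2 := t_mul_eq_zero_of_Nmap_eq_zero η (φ f) h1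
  refine ⟨b * φ f ^ (n + 1), (mem_rel_iff η _ _).mpr
    ⟨x * η.t A f ^ k * η.t A f, mul_mem (mul_mem hx (pow_mem (η.t_mem_M A f) k)) (η.t_mem_M A f), ?_⟩,
    k + (n + 1), ?_⟩
  · rw [map_mul, Nmap_t, pow_succ, ← mul_assoc, map_mul (η.t B), ← sub_eq_zero, ← sub_mul, mul_comm]
    exact h2
  · rw [map_mul, map_pow, ← hF, ← hb, pow_add, mul_assoc]

end Groth.Agent.EtaPtLib
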