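import Groth.Prelude.Def_W4c1chowmix47Eta
import Mathlib.Algebra.CharP.Reduced
import Mathlib.Algebra.CharP.Algebra
import Mathlib.RingTheory.Valuation.LocalSubring
import Mathlib.RingTheory.Spectrum.Prime.Basic

/-!
# Field-theoretic lemmas and evaluation maps for `EtaPt.FieldEndo`
-/

universe u

open EtaPt

namespace Groth.Agent.EtaPtLib

variable (η : FieldEndo.{u})

section Fields

variable {K L E : Type u} [Field K] [Field L] [Field E]

/-- Two maps out of a purely inseparable extension which agree on the base are equal. -/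
theorem ext_of_pow_mem (i : K →+* L) (hi : ∀ x : L, ∃ n : ℕ, x ^ ringExpChar K ^ n ∈ Set.range i)
    (φ ψ : L →+* E) (h : φ.comp i = ψ.comp i) : φ = ψ := by
  ext x
  obtain ⟨n, a, ha⟩ := hi x
  have : ExpChar K (ringExpChar K) := ringExpChar.expChar K
  have : ExpChar E (ringExpChar K) :=
    expChar_of_injective_ringHom (φ.comp i).injective (ringExpChar K)
  apply iterateFrobenius_inj E (ringExpChar K) n
  simp only [iterateFrobenius_def]
  rw [← map_pow, ← map_pow, ← ha]
  exact RingHom.congr_fun h a

theorem eta_ext (φ ψ : η.obj K →+* E) (h : φ.comp (η.eta K) = ψ.comp (η.eta K)) : φ = ψ :=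
  ext_of_pow_mem (η.eta K) (η.exists_pow_mem_range_eta K) φ ψ h

theorem map_eta_apply (f : K →+* L) (x : K) : η.map f (η.eta K x) = η.eta L (f x) :=
  RingHom.congr_fun (η.eta_natural f) x

theorem map_eta_eq (K : Type u) [Field K] : η.map (η.eta K) = η.eta (η.obj K) :=
  eta_ext η _ _ (η.eta_natural (η.eta K))

theorem bijective_eta_obj (K : Type u) [Field K] : Function.Bijective (η.eta (η.obj K)) := by
  rw [← map_eta_eq]; exact η.bijective_map_eta K

theorem bijective_map_of_bijective (f : K →+* L) (hf : Function.Bijective f) :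
    Function.Bijective (η.map f) := by
  let e := RingEquiv.ofBijective f hf
  have h1 : (η.map e.symm.toRingHom).comp (η.map f) = RingHom.id _ := by
    rw [← η.map_comp, ← η.map_id]
    congr 1
    ext x
    exact e.symm_apply_apply x
  have h2 : (η.map f).comp (η.map e.symm.toRingHom) = RingHom.id _ := by
    rw [← η.map_comp, ← η.map_id]
    congr 1
    ext x
    exact e.apply_symm_apply x
  exact Function.bijective_iff_has_inverse.mpr
    ⟨η.map e.symm.toRingHom, RingHom.congr_fun h1, RingHom.congr_fun h2⟩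

theorem bijective_eta_of_bijective (f : K →+* L) (hf : Function.Bijective f)
    (h : Function.Bijective (η.eta K)) : Function.Bijective (η.eta L) := by
  have := (bijective_map_of_bijective η f hf).comp h
  rw [← RingHom.coe_comp, η.eta_natural f, RingHom.coe_comp] at this
  exact ⟨(η.eta L).injective, this.2.of_comp⟩

/-- If `η_K` factors through `ι : K → L` then `F(ι)` is bijective and inverse to the factor map. -/
theorem map_of_factor (ι : K →+* L) (φ : L →+* η.obj K) (h : φ.comp ι = η.eta K) :
    Function.Bijective (η.map ι) ∧ (η.map ι).comp φ = η.eta L := by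
  have h1 : Function.Bijective ((η.map φ).comp (η.map ι)) := by
    rw [← η.map_comp, h]; exact η.bijective_map_eta K
  have hb : Function.Bijective (η.map φ) := ⟨(η.map φ).injective, Function.Surjective.of_comp (g := η.map ι) h1.2⟩
  have hι : Function.Bijective (η.map ι) := hb.of_comp_iff' _ |>.mp h1
  refine ⟨hι, ?_⟩
  have hLeq : (η.map φ).comp ((η.map ι).comp φ) = (η.map φ).comp (η.eta L) := by
    rw [← RingHom.comp_assoc, ← η.map_comp, h, map_eta_eq, η.eta_natural φ]
  exact RingHom.ext fun x => hb.1 (RingHom.congr_fun hLeq x)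

/-- If `F(ι)` is bijective then `ι` is purely inseparable. -/
theorem pow_mem_range_of_bijective_map (ι : K →+* L) (hι : Function.Bijective (η.map ι)) (z : L) :
    ∃ n : ℕ, z ^ ringExpChar K ^ n ∈ Set.range ι := by
  obtain ⟨x, hx⟩ := hι.2 (η.eta L z)
  obtain ⟨n, a, ha⟩ := η.exists_pow_mem_range_eta K x
  refine ⟨n, a, (η.eta L).injective ?_⟩
  rw [← map_eta_apply η ι a, ha, map_pow, map_pow, hx]

theorem ext_of_bijective_map (ι : K →+* L) (hι : Function.Bijective (η.map ι))
    (φ ψ : L →+* E) (h : φ.comp ι = ψ.comp ι) : φ = ψ :=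
  ext_of_pow_mem ι (pow_mem_range_of_bijective_map η ι hι) φ ψ h

end Fields

section Eval

variable {A B : Type u} [CommRing A] [CommRing B]

theorem residueField_hom_ext {p : Ideal A} [p.IsPrime] {K : Type*} [CommRing K]
    {φ ψ : p.ResidueField →+* K}
    (h : φ.comp (algebraMap A p.ResidueField) = ψ.comp (algebraMap A p.ResidueField)) : φ = ψ :=
  IsLocalization.ringHom_ext (nonZeroDivisors (A ⧸ p)) (Ideal.Quotient.ringHom_ext h)

variable {K L : Type u} [Field K] [Field L]

/-- The map `k(p) → K` induced by `h : A → K` with kernel `p`. -/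
noncomputable def rfLift (h : A →+* K) (p : Ideal A) [p.IsPrime] (hp : RingHom.ker h = p) :
    p.ResidueField →+* K :=
  Ideal.ResidueField.lift p h hp.ge fun _ ha => IsUnit.mk0 _ fun h0 => ha (hp ▸ h0)

@[simp] theorem rfLift_algebraMap (h : A →+* K) (p : Ideal A) [p.IsPrime] (hp : RingHom.ker h = p)
    (a : A) : rfLift h p hp (algebraMap A _ a) = h a :=
  Ideal.ResidueField.lift_algebraMap ..

theorem rfLift_comp (h : A →+* K) (p : Ideal A) [p.IsPrime] (hp : RingHom.ker h = p) :
    (rfLift h p hp).comp (algebraMap A _) = h :=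
  RingHom.ext (rfLift_algebraMap h p hp)

/-- The prime `ker h` of a map to a field. -/
def kerPt (h : A →+* K) : PrimeSpectrum A := ⟨RingHom.ker h, RingHom.ker_isPrime h⟩

theorem kerPt_ker (h : A →+* K) : RingHom.ker h = (kerPt h).asIdeal := rfl

/-- Evaluation of an element of `N η A` at a field-valued point. -/
noncomputable def ev (h : A →+* K) : η.N A →+* η.obj K :=
  (η.map (rfLift h (kerPt h).asIdeal (kerPt_ker h))).comp
    (Pi.evalRingHom (fun p : PrimeSpectrum A => η.obj p.asIdeal.ResidueField) (kerPt h))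

theorem ev_eq_map (h : A →+* K) (p : PrimeSpectrum A) (φ : p.asIdeal.ResidueField →+* K)
    (hφ : φ.comp (algebraMap A _) = h) (x : η.N A) : ev η h x = η.map φ (x p) := by
  obtain rfl : p = kerPt h := by
    apply PrimeSpectrum.ext
    change p.asIdeal = RingHom.ker h
    rw [← hφ, ← RingHom.comap_ker, (RingHom.injective_iff_ker_eq_bot φ).mp φ.injective,
      ← RingHom.ker_eq_comap_bot, Ideal.ker_algebraMap_residueField]
  have : φ = rfLift h (kerPt h).asIdeal rfl := residueField_hom_ext (hφ.trans (rfLift_comp h _ (kerPt_ker h)).symm)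
  rw [this]; rfl

theorem ev_algebraMap (p : PrimeSpectrum A) (x : η.N A) :
    ev η (algebraMap A p.asIdeal.ResidueField) x = x p := by
  rw [ev_eq_map η _ p (RingHom.id _) (RingHom.id_comp _), η.map_id]; rfl

theorem ev_comp (ι : K →+* L) (h : A →+* K) (x : η.N A) :
    ev η (ι.comp h) x = η.map ι (ev η h x) := by
  rw [ev_eq_map η (ι.comp h) (kerPt h) (ι.comp (rfLift h (kerPt h).asIdeal (kerPt_ker h)))
    (by rw [RingHom.comp_assoc, rfLift_comp]), η.map_comp]
  rfl

theorem ev_Nmap (f : A →+* B) (h : B →+* K) (x : η.N A) :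
    ev η h (η.Nmap f x) = ev η (h.comp f) x := by
  refine Eq.trans ?_ (ev_eq_map η (h.comp f) (PrimeSpectrum.comap f (kerPt h))
    ((rfLift h (kerPt h).asIdeal (kerPt_ker h)).comp (Ideal.ResidueField.map _ (kerPt h).asIdeal f rfl)) ?_ x).symm
  · rw [η.map_comp]; rfl
  · refine RingHom.ext fun a => ?_
    exact (congrArg (rfLift h _ (kerPt_ker h)) (Ideal.ResidueField.map_algebraMap ..)).trans
      (rfLift_algebraMap h _ (kerPt_ker h) (f a))

theorem ev_t (h : A →+* K) (a : A) : ev η h (η.t A a) = η.eta K (h a) := by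
  change η.map _ (η.eta _ (algebraMap A _ a)) = _
  rw [map_eta_apply, rfLift_algebraMap]

theorem ev_eq_zero_iff (h : A →+* K) (p : PrimeSpectrum A) (hp : RingHom.ker h = p.asIdeal)
    (x : η.N A) : ev η h x = 0 ↔ x p = 0 := by
  rw [ev_eq_map η h p (rfLift h p.asIdeal hp) (rfLift_comp h _ hp), map_eq_zero]

theorem N_ext {x y : η.N A}
    (h : ∀ p : PrimeSpectrum A, ev η (algebraMap A p.asIdeal.ResidueField) x =
      ev η (algebraMap A p.asIdeal.ResidueField) y) : x = y :=
  funext fun p => by simpa only [ev_algebraMap] using h p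

theorem Nmap_comp {C : Type u} [CommRing C] (g : B →+* C) (f : A →+* B) (x : η.N A) :
    η.Nmap (g.comp f) x = η.Nmap g (η.Nmap f x) :=
  N_ext η fun p => by simp only [ev_Nmap, RingHom.comp_assoc]

theorem Nmap_t (f : A →+* B) (a : A) : η.Nmap f (η.t A a) = η.t B (f a) :=
  η.Nmap_t_apply f a

theorem t_eq_zero_iff (a : A) : η.t A a = 0 ↔ IsNilpotent a := by
  rw [nilpotent_iff_mem_prime]
  constructor
  · intro h P hP
    have h' : η.eta _ (algebraMap A P.ResidueField a) = 0 := congrFun h ⟨P, hP⟩
    simpa using h'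
  · intro h
    funext p
    change η.eta _ (algebraMap A _ a) = 0
    simp [h p.asIdeal p.isPrime]

theorem t_injective [IsReduced A] : Function.Injective (η.t A) :=
  (injective_iff_map_eq_zero _).mpr fun a ha => ((t_eq_zero_iff η a).mp ha).eq_zero

theorem mem_range_t_iff (y : η.N A) (a : A) :
    η.t A a = y ↔ ∀ (K : Type u) [Field K] (h : A →+* K), ev η h y = η.eta K (h a) := by
  refine ⟨?_, fun H => N_ext η fun p => ?_⟩
  · rintro rfl K _ h; exact ev_t η h a
  · rw [H, ev_t]

theorem mem_M_iff (x : η.N A) : x ∈ η.M A ↔ ∀ (R : Type u) [CommRing R] [IsDomain R]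
    [ValuationRing R], η.InV R → ∀ g : A →+* R, ∃ r : R,
      ∀ (K : Type u) [Field K] (h : R →+* K), ev η (h.comp g) x = η.eta K (h r) := by
  constructor
  · intro hx R _ _ _ hR g
    obtain ⟨r, hr⟩ := hx R hR g
    exact ⟨r, fun K _ h => by rw [← ev_Nmap, ← hr, ev_t]⟩
  · intro H R _ _ _ hR g
    obtain ⟨r, hr⟩ := H R hR g
    exact ⟨r, (mem_range_t_iff η _ r).mpr fun K _ h => by rw [ev_Nmap, hr]⟩

theorem Nmap_mem_M (f : A →+* B) {x : η.N A} (hx : x ∈ η.M A) : η.Nmap f x ∈ η.M B := by
  intro R _ _ _ hR g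
  rw [← Nmap_comp]
  exact hx R hR (g.comp f)

theorem bijective_eta_fraction {R : Type u} [CommRing R] [IsDomain R] (hR : η.InV R)
    (L : Type u) [Field L] [Algebra R L] [IsFractionRing R L] : Function.Bijective (η.eta L) :=
  bijective_eta_of_bijective η (IsLocalization.algEquiv (nonZeroDivisors R) (FractionRing R) L).toRingHom
    (IsLocalization.algEquiv (nonZeroDivisors R) (FractionRing R) L).bijective hR

theorem inV_of_fraction (R : Type u) [CommRing R] [IsDomain R] (L : Type u) [Field L] [Algebra R L]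
    [IsFractionRing R L] (h : Function.Bijective (η.eta L)) : η.InV R :=
  bijective_eta_of_bijective η (IsLocalization.algEquiv (nonZeroDivisors R) L (FractionRing R)).toRingHom
    (IsLocalization.algEquiv (nonZeroDivisors R) L (FractionRing R)).bijective h

theorem inV_valuationSubring {L : Type u} [Field L] (V : ValuationSubring L)
    (h : Function.Bijective (η.eta L)) : η.InV V :=
  inV_of_fraction η V L h

end Eval

end Groth.Agent.EtaPtLib
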