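import Groth.Agent.EtaPt.Rel
import Mathlib.RingTheory.Flat.FaithfullyFlat.Algebra
import Mathlib.RingTheory.Localization.FractionRing
import Mathlib.RingTheory.Flat.TorsionFree
import Mathlib.RingTheory.IntegralClosure.Algebra.Basic

/-!
# Faithfully flat descent for `qRel`
-/

universe u

open EtaPt Groth.Agent.EtaPtLib
open scoped TensorProduct nonZeroDivisors

namespace Groth.Agent.EtaPtLib

variable (η : FieldEndo.{u}) (A A' : Type u) [CommRing A] [CommRing A'] [Algebra A A']
  [Module.FaithfullyFlat A A']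

theorem injective_algebraMap_of_faithfullyFlat : Function.Injective (algebraMap A A') :=
  FaithfulSMul.algebraMap_injective A A'

theorem bijective_qRel_of_tensor (B : Type u) [CommRing B] [Algebra A B]
    (h : Function.Bijective (η.qRel (Algebra.TensorProduct.includeLeftRingHom : A' →+* A' ⊗[A] B))) :
    Function.Bijective (η.qRel (algebraMap A B)) := by
  rw [bijective_qRel_iff] at h ⊢
  have hcomm : (Algebra.TensorProduct.includeRight : B →ₐ[A] A' ⊗[A] B).toRingHom.comp (algebraMap A B) =
      (Algebra.TensorProduct.includeLeftRingHom : A' →+* A' ⊗[A] B).comp (algebraMap A A') := by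
    refine RingHom.ext fun a => ?_
    change (1 : A') ⊗ₜ[A] algebraMap A B a = algebraMap A A' a ⊗ₜ[A] (1 : B)
    rw [Algebra.algebraMap_eq_smul_one, Algebra.algebraMap_eq_smul_one, TensorProduct.tmul_smul,
      TensorProduct.smul_tmul']
  refine ⟨fun a b hab => injective_algebraMap_of_faithfullyFlat A A' (h.1 ?_), fun b hb => ?_⟩
  · rw [← RingHom.comp_apply, ← hcomm, RingHom.comp_apply, hab, ← RingHom.comp_apply, hcomm,
      RingHom.comp_apply]
  · obtain ⟨x, hx, hxb⟩ := (mem_rel_iff η _ b).mp hb
    obtain ⟨a', ha'⟩ := h.2 ((1 : A') ⊗ₜ[A] b) ((mem_rel_iff η _ _).mpr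
      ⟨η.Nmap (algebraMap A A') x, Nmap_mem_M η _ hx, by
        rw [← Nmap_comp, ← hcomm, Nmap_comp, hxb, Nmap_t]; rfl⟩)
    let Q := B ⧸ LinearMap.range (Algebra.linearMap A B)
    have h0 : (1 : A') ⊗ₜ[A] (Submodule.Quotient.mk b : Q) = (0 : A' ⊗[A] Q) := by
      have h1 := congrArg (LinearMap.lTensor A' (LinearMap.range (Algebra.linearMap A B)).mkQ) ha'
      change a' ⊗ₜ[A] (Submodule.Quotient.mk (1 : B) : Q) = (1 : A') ⊗ₜ[A] (Submodule.Quotient.mk b : Q) at h1
      rw [← h1, (Submodule.Quotient.mk_eq_zero (LinearMap.range (Algebra.linearMap A B))).mpr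
        (LinearMap.mem_range.mpr ⟨1, map_one (algebraMap A B)⟩),
        TensorProduct.tmul_zero]
    have hQ : (Submodule.Quotient.mk b : Q) = 0 :=
      Module.FaithfullyFlat.tensorProduct_mk_injective (A := A) (B := A') Q (h0.trans (by simp))
    obtain ⟨a, ha⟩ := (Submodule.Quotient.mk_eq_zero _).mp hQ
    exact ⟨a, ha⟩

/-- A nonzerodivisor stays a nonzerodivisor in a flat algebra. -/
theorem mem_nonZeroDivisors_of_flat {s : A} (hs : s ∈ A⁰) : algebraMap A A' s ∈ A'⁰ := by
  have hreg : IsSMulRegular A' s := Module.Flat.isSMulRegular_of_nonZeroDivisors hs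
  refine mem_nonZeroDivisors_iff_right.mpr fun x hx => hreg ?_
  change s • x = s • (0 : A')
  rw [smul_zero, Algebra.smul_def, mul_comm, hx]

theorem bijective_qRel_integralClosure
    (h : Function.Bijective (η.qRel (algebraMap A' (integralClosure A' (FractionRing A'))))) :
    Function.Bijective (η.qRel (algebraMap A (integralClosure A (FractionRing A)))) := by
  rw [bijective_qRel_iff] at h ⊢
  let φ : FractionRing A →+* FractionRing A' :=
    IsLocalization.map (FractionRing A') (algebraMap A A')
      (show A⁰ ≤ A'⁰.comap (algebraMap A A') from fun s hs => mem_nonZeroDivisors_of_flat A A' hs)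
  have hφ : ∀ a, φ (algebraMap A _ a) = algebraMap A' _ (algebraMap A A' a) := IsLocalization.map_eq _
  have hint : ∀ b : integralClosure A (FractionRing A),
      φ b ∈ integralClosure A' (FractionRing A') := by
    intro b
    obtain ⟨H, hH, hH'⟩ := b.2
    refine ⟨H.map (algebraMap A A'), hH.map _, ?_⟩
    have h2 := congrArg φ hH'
    rw [Polynomial.hom_eval₂, map_zero] at h2
    rw [Polynomial.eval₂_map, show (algebraMap A' (FractionRing A')).comp (algebraMap A A') =
      φ.comp (algebraMap A _) from RingHom.ext fun a => (hφ a).symm]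
    exact h2
  let ψ : integralClosure A (FractionRing A) →+* integralClosure A' (FractionRing A') :=
    (φ.comp (integralClosure A (FractionRing A)).val.toRingHom).codRestrict _ hint
  have hψ : ψ.comp (algebraMap A _) = (algebraMap A' _).comp (algebraMap A A') :=
    RingHom.ext fun a => Subtype.ext (hφ a)
  have hinj := injective_algebraMap_of_faithfullyFlat A A'
  refine ⟨fun a b hab => IsFractionRing.injective A (FractionRing A) (congrArg Subtype.val hab),
    fun b hb => ?_⟩
  obtain ⟨x, hx, hxb⟩ := (mem_rel_iff η _ b).mp hb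
  obtain ⟨a', ha'⟩ := h.2 (ψ b) ((mem_rel_iff η _ _).mpr
    ⟨η.Nmap (algebraMap A A') x, Nmap_mem_M η _ hx, by
      rw [← Nmap_comp, ← hψ, Nmap_comp, hxb, Nmap_t]⟩)
  obtain ⟨⟨a, s⟩, has⟩ := IsLocalization.surj A⁰ (b : FractionRing A)
  have h1 : a' * algebraMap A A' s = algebraMap A A' a := by
    refine IsFractionRing.injective A' (FractionRing A') ?_
    have h2 := congrArg φ has
    rw [map_mul, hφ, hφ] at h2
    rw [map_mul, ← h2]
    exact congrArg (· * _) (congrArg Subtype.val ha')
  have hmem : a ∈ Ideal.span {(s : A)} := by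
    rw [← Ideal.comap_map_eq_self_of_faithfullyFlat (B := A') (Ideal.span {(s : A)}), Ideal.mem_comap,
      Ideal.map_span, Set.image_singleton, Ideal.mem_span_singleton']
    exact ⟨a', h1⟩
  obtain ⟨c, rfl⟩ := Ideal.mem_span_singleton'.mp hmem
  refine ⟨c, Subtype.ext ?_⟩
  rw [map_mul] at has
  exact ((IsLocalization.map_units (FractionRing A) s).mul_left_inj.mp has).symm

end Groth.Agent.EtaPtLib
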