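import Groth.Agent.EtaPt.Core
import Mathlib.FieldTheory.IsAlgClosed.Basic
import Mathlib.RingTheory.IntegralClosure.IntegrallyClosed
import Mathlib.Algebra.GCDMonoid.IntegrallyClosed
import Mathlib.RingTheory.PrincipalIdealDomain
import Mathlib.RingTheory.Valuation.ValuationSubring

/-!
# Integral maps and the ring `M η A`
-/

universe u

open EtaPt Groth.Agent.EtaPtLib
open scoped Polynomial

namespace Groth.Agent.EtaPtLib

variable (η : FieldEndo.{u}) {A B C : Type u} [CommRing A] [CommRing B] [CommRing C]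

theorem isIntegrallyClosed_of_valuationRing (R : Type u) [CommRing R] [IsDomain R] [ValuationRing R] :
    IsIntegrallyClosed R := by
  classical
  let _ : GCDMonoid R := Classical.choice ⟨IsBezout.toGCDDomain R⟩
  infer_instance

theorem bijective_eta_of_isAlgClosed (K : Type u) [Field K] [IsAlgClosed K] :
    Function.Bijective (η.eta K) := by
  refine ⟨(η.eta K).injective, fun x => ?_⟩
  obtain ⟨n, a, ha⟩ := η.exists_pow_mem_range_eta K x
  have : ExpChar K (ringExpChar K) := ringExpChar.expChar K
  have : ExpChar (η.obj K) (ringExpChar K) :=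
    expChar_of_injective_ringHom (η.eta K).injective (ringExpChar K)
  obtain ⟨b, hb⟩ := IsAlgClosed.exists_pow_nat_eq a
    (n := ringExpChar K ^ n) (pow_pos (expChar_pos K (ringExpChar K)) n)
  refine ⟨b, iterateFrobenius_inj (η.obj K) (ringExpChar K) n ?_⟩
  simp only [iterateFrobenius_def]
  rw [← map_pow, hb, ha]

/-- A map to a valuation subring containing the image of the base, from an integral extension. -/
theorem exists_codRestrict_of_isIntegral {L : Type u} [Field L] (V : ValuationSubring L)
    (f : A →+* B) (hf : f.IsIntegral) (g : A →+* V) (e : B →+* L) (h : e.comp f = V.subtype.comp g) :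
    ∃ g' : B →+* V, V.subtype.comp g' = e ∧ g'.comp f = g := by
  have hmem : ∀ b, e b ∈ V.toSubring := by
    intro b
    obtain ⟨H, hH, hH'⟩ := hf b
    have h1 : IsIntegral V (e b) := by
      refine ⟨H.map g, hH.map g, ?_⟩
      rw [Polynomial.eval₂_map]
      have h2 := congrArg e hH'
      rw [Polynomial.hom_eval₂, map_zero, h] at h2
      exact h2
    obtain ⟨y, hy⟩ := IsIntegrallyClosed.isIntegral_iff.mp h1
    exact hy ▸ y.2
  exact ⟨e.codRestrict V.toSubring hmem, RingHom.ext fun _ => rfl,
    RingHom.ext fun a => Subtype.ext (RingHom.congr_fun h a)⟩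

/-- Extending a field-valued point along an integral map with surjective `Spec`. -/
theorem exists_extension (f : A →+* B) (hf : f.IsIntegral)
    (hs : Function.Surjective (PrimeSpectrum.comap f)) {L : Type u} [Field L] [IsAlgClosed L]
    (g : A →+* L) : ∃ e : B →+* L, e.comp f = g := by
  obtain ⟨Q, hQ⟩ := hs (kerPt g)
  have hQ' : (kerPt g).asIdeal = Q.asIdeal.comap f := (congrArg PrimeSpectrum.asIdeal hQ).symm
  let ι : (kerPt g).asIdeal.ResidueField →+* Q.asIdeal.ResidueField :=
    Ideal.ResidueField.map (kerPt g).asIdeal Q.asIdeal f hQ'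
  letI := ι.toAlgebra
  letI := (rfLift g (kerPt g).asIdeal (kerPt_ker g)).toAlgebra
  have hint : ∀ b : B, IsIntegral (kerPt g).asIdeal.ResidueField
      (algebraMap B Q.asIdeal.ResidueField b) := by
    intro b
    obtain ⟨H, hH, hH'⟩ := hf b
    refine ⟨H.map (algebraMap A _), hH.map _, ?_⟩
    rw [Polynomial.eval₂_map]
    have h2 := congrArg (algebraMap B Q.asIdeal.ResidueField) hH'
    rw [Polynomial.hom_eval₂, map_zero] at h2
    have h3 : (algebraMap (kerPt g).asIdeal.ResidueField Q.asIdeal.ResidueField).comp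
        (algebraMap A _) = (algebraMap B Q.asIdeal.ResidueField).comp f :=
      RingHom.ext fun a => Ideal.ResidueField.map_algebraMap _ _ _ _ a
    rw [h3]; exact h2
  haveI : Algebra.IsAlgebraic (kerPt g).asIdeal.ResidueField Q.asIdeal.ResidueField := by
    refine ⟨fun z => ?_⟩
    obtain ⟨a, b, -, rfl⟩ := IsFractionRing.div_surjective (B ⧸ Q.asIdeal) z
    obtain ⟨a, rfl⟩ := Ideal.Quotient.mk_surjective a
    obtain ⟨b, rfl⟩ := Ideal.Quotient.mk_surjective b
    rw [div_eq_mul_inv]
    exact (hint a).isAlgebraic.mul (hint b).isAlgebraic.inv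
  let φ : Q.asIdeal.ResidueField →ₐ[(kerPt g).asIdeal.ResidueField] L := IsAlgClosed.lift
  refine ⟨φ.toRingHom.comp (algebraMap B _), RingHom.ext fun a => ?_⟩
  change φ (algebraMap B _ (f a)) = g a
  rw [← Ideal.ResidueField.map_algebraMap (kerPt g).asIdeal Q.asIdeal f hQ' a]
  exact (φ.commutes _).trans (rfLift_algebraMap ..)

/-- Primes lift along an injective local map from a valuation ring. -/
theorem comap_surjective_of_valuationRing {R V : Type u} [CommRing R] [IsDomain R] [ValuationRing R]
    [CommRing V] [IsDomain V] [IsLocalRing V] (φ : R →+* V) (hφ : Function.Injective φ)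
    [IsLocalHom φ] : Function.Surjective (PrimeSpectrum.comap φ) := by
  intro p
  have hp : ∃ q : Ideal V, q.IsPrime ∧ q.comap φ = p.asIdeal := by
    refine (Ideal.comap_map_eq_self_iff_of_isPrime p.asIdeal).mp (le_antisymm ?_ Ideal.le_comap_map)
    intro x hx
    by_contra hxp
    have hle : p.asIdeal.map φ ≤ Ideal.span {φ x} * IsLocalRing.maximalIdeal V := by
      rw [Ideal.map_le_iff_le_comap]
      intro c hc
      rcases ValuationRing.cond x c with ⟨d, hd | hd⟩
      · have hdp : d ∈ p.asIdeal := (p.isPrime.mem_or_mem (hd ▸ hc)).resolve_left hxp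
        refine Ideal.mem_comap.mpr (Ideal.mem_span_singleton_mul.mpr ⟨φ d, ?_, ?_⟩)
        · intro hu
          exact p.isPrime.ne_top (Ideal.eq_top_of_isUnit_mem _ hdp (IsLocalHom.map_nonunit d hu))
        · rw [← map_mul, hd]
      · exact (hxp (hd ▸ p.asIdeal.mul_mem_right d hc)).elim
    obtain ⟨m, hm, hm'⟩ := Ideal.mem_span_singleton_mul.mp (hle hx)
    have hx0 : φ x ≠ 0 := fun h => hxp (by
      rw [hφ (h.trans (map_zero φ).symm)]; exact zero_mem _)
    rw [mul_eq_left₀ hx0] at hm'
    exact hm (hm' ▸ isUnit_one)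
  obtain ⟨q, hq, hq'⟩ := hp
  exact ⟨⟨q, hq⟩, PrimeSpectrum.ext hq'⟩

/-- `M η` can be tested after an integral extension with surjective `Spec`. -/
theorem mem_M_of_Nmap_mem (f : A →+* B) (hf : f.IsIntegral)
    (hs : Function.Surjective (PrimeSpectrum.comap f)) {x : η.N A} (hx : η.Nmap f x ∈ η.M B) :
    x ∈ η.M A := by
  refine (mem_M_iff η x).mpr fun R _ _ _ hR g => ?_
  let L := AlgebraicClosure (FractionRing R)
  obtain ⟨V, hV, hloc⟩ := IsLocalRing.exists_factor_valuationRing (algebraMap R L)
  let φ : R →+* V := (algebraMap R L).codRestrict V.toSubring hV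
  haveI : IsLocalHom φ := hloc
  have hφ : Function.Injective φ := fun a b h => by
    have h' : algebraMap R L a = algebraMap R L b := congrArg Subtype.val h
    rw [IsScalarTower.algebraMap_apply R (FractionRing R) L,
      IsScalarTower.algebraMap_apply R (FractionRing R) L b] at h'
    exact IsFractionRing.injective R (FractionRing R) ((algebraMap _ _).injective h')
  obtain ⟨e, he⟩ := exists_extension f hf hs ((algebraMap R L).comp g)
  obtain ⟨g', hg', hg''⟩ := exists_codRestrict_of_isIntegral V f hf (φ.comp g) e he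
  obtain ⟨v, hv⟩ := (mem_M_iff η _).mp hx V
    (inV_valuationSubring η V (bijective_eta_of_isAlgClosed η L)) g'
  have key : ∀ (K : Type u) [Field K] (h : V →+* K),
      ev η ((h.comp φ).comp g) x = η.eta K (h v) := by
    intro K _ h
    rw [← hv K h, ev_Nmap, RingHom.comp_assoc, RingHom.comp_assoc, hg'']
  -- the value in `FractionRing R`
  obtain ⟨k, hk⟩ := hR.2 (ev η ((algebraMap R (FractionRing R)).comp g) x)
  have hkv : algebraMap (FractionRing R) L k = (v : L) := by
    refine (η.eta L).injective ?_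
    have h1 := key L V.subtype
    have h2 : (V.subtype.comp φ).comp g = (algebraMap (FractionRing R) L).comp
        ((algebraMap R (FractionRing R)).comp g) := by
      ext a
      exact IsScalarTower.algebraMap_apply R (FractionRing R) L (g a)
    rw [h2, ev_comp, ← hk, map_eta_apply] at h1
    exact h1
  obtain ⟨r, hr⟩ : ∃ r : R, algebraMap R (FractionRing R) r = k := by
    rcases ValuationRing.isInteger_or_isInteger R k with ⟨r, hr⟩ | ⟨s, hs'⟩
    · exact ⟨r, hr⟩
    · by_cases hk0 : k = 0
      · exact ⟨0, by rw [hk0, map_zero]⟩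
      have h1 : φ s * v = 1 := by
        apply Subtype.ext
        change algebraMap R L s * (v : L) = 1
        rw [IsScalarTower.algebraMap_apply R (FractionRing R) L, hs', ← hkv, ← map_mul,
          inv_mul_cancel₀ hk0, map_one]
      obtain ⟨u, hu⟩ := (IsLocalHom.map_nonunit (f := φ) s (IsUnit.of_mul_eq_one _ h1)).exists_right_inv
      refine ⟨u, ?_⟩
      have h2 := congrArg (algebraMap R (FractionRing R)) hu
      rw [map_mul, map_one, hs'] at h2
      exact ((inv_mul_eq_one₀ hk0).mp h2).symm
  have hrv : φ r = v := by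
    apply Subtype.ext
    change algebraMap R L r = (v : L)
    rw [IsScalarTower.algebraMap_apply R (FractionRing R) L, hr, hkv]
  refine ⟨r, fun K _ h => ?_⟩
  obtain ⟨P, hP⟩ := comap_surjective_of_valuationRing φ hφ (kerPt h)
  have hP' : (kerPt h).asIdeal = P.asIdeal.comap φ := (congrArg PrimeSpectrum.asIdeal hP).symm
  have h1 := key P.asIdeal.ResidueField (algebraMap V _)
  rw [← hrv, ← Ideal.ResidueField.map_algebraMap (kerPt h).asIdeal P.asIdeal φ hP' r,
    ← map_eta_apply η] at h1
  have h2 : ((algebraMap V P.asIdeal.ResidueField).comp φ).comp g =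
      (Ideal.ResidueField.map (kerPt h).asIdeal P.asIdeal φ hP').comp
        ((algebraMap R (kerPt h).asIdeal.ResidueField).comp g) :=
    RingHom.ext fun a => (Ideal.ResidueField.map_algebraMap _ _ _ _ (g a)).symm
  rw [h2, ev_comp] at h1
  conv_lhs => rw [← rfLift_comp h (kerPt h).asIdeal (kerPt_ker h), RingHom.comp_assoc, ev_comp]
  rw [(η.map _).injective h1, map_eta_apply, rfLift_algebraMap]

theorem mem_M_iff_Nmap_mem (f : A →+* B) (hf : f.IsIntegral)
    (hs : Function.Surjective (PrimeSpectrum.comap f)) (x : η.N A) :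
    x ∈ η.M A ↔ η.Nmap f x ∈ η.M B :=
  ⟨Nmap_mem_M η f, mem_M_of_Nmap_mem η f hf hs⟩

theorem bijOn_M (f : A →+* B) (hf : f.IsIntegral) (hN : Function.Bijective (η.Nmap f)) :
    Set.BijOn (η.Nmap f) (η.M A) (η.M B) :=
  ⟨fun _ hx => Nmap_mem_M η f hx, hN.1.injOn, fun y hy => by
    obtain ⟨x, rfl⟩ := hN.2 y
    exact ⟨x, mem_M_of_Nmap_mem η f hf (bijective_comap_of_bijective_Nmap η f hN).2 hy, rfl⟩⟩

/-- Maps to valuation rings in `V_η` extend uniquely along integral `N η`-isomorphisms. -/
theorem exists_factor (f : A →+* B) (hf : f.IsIntegral) (hN : Function.Bijective (η.Nmap f))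
    (R : Type u) [CommRing R] [IsDomain R] [ValuationRing R] (hR : η.InV R) (g : A →+* R) :
    ∃ g' : B →+* R, g'.comp f = g := by
  let h : A →+* FractionRing R := (algebraMap R _).comp g
  obtain ⟨Q, hQ⟩ := (bijective_comap_of_bijective_Nmap η f hN).2 (kerPt h)
  have hk : RingHom.ker h = (PrimeSpectrum.comap f Q).asIdeal := (congrArg PrimeSpectrum.asIdeal hQ).symm
  let ι := Ideal.ResidueField.map (PrimeSpectrum.comap f Q).asIdeal Q.asIdeal f rfl
  let e₁ := RingEquiv.ofBijective (η.map ι) (bijective_component_of_bijective_Nmap η f hN Q)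
  let e₂ := RingEquiv.ofBijective (η.eta (FractionRing R)) hR
  let ψ : Q.asIdeal.ResidueField →+* FractionRing R :=
    e₂.symm.toRingHom.comp ((η.map (rfLift h _ hk)).comp
      (e₁.symm.toRingHom.comp (η.eta Q.asIdeal.ResidueField)))
  have hψ : ∀ a, ψ (algebraMap B _ (f a)) = h a := fun a => by
    change e₂.symm (η.map (rfLift h _ hk) (e₁.symm (η.eta _ (algebraMap B _ (f a))))) = h a
    rw [← Ideal.ResidueField.map_algebraMap (PrimeSpectrum.comap f Q).asIdeal Q.asIdeal f rfl a,
      ← map_eta_apply η ι]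
    rw [show η.map ι (η.eta _ (algebraMap A _ a)) = e₁ (η.eta _ (algebraMap A _ a)) from rfl,
      RingEquiv.symm_apply_apply, map_eta_apply, rfLift_algebraMap]
    exact e₂.symm_apply_apply (h a)
  have hmem : ∀ b, ∃ r : R, algebraMap R (FractionRing R) r = ψ (algebraMap B _ b) := by
    intro b
    obtain ⟨H, hH, hH'⟩ := hf b
    haveI := isIntegrallyClosed_of_valuationRing R
    refine IsIntegrallyClosed.isIntegral_iff.mp ⟨H.map g, hH.map g, ?_⟩
    rw [Polynomial.eval₂_map]
    have h2 := congrArg (ψ.comp (algebraMap B _)) hH'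
    rw [Polynomial.hom_eval₂, map_zero] at h2
    rwa [RingHom.ext (g := h) (f := (ψ.comp (algebraMap B _)).comp f) hψ] at h2
  choose r hr using hmem
  have hinj := IsFractionRing.injective R (FractionRing R)
  refine ⟨⟨⟨⟨r, hinj (by rw [hr, map_one, map_one, map_one])⟩,
    fun a b => hinj (by rw [map_mul, hr, hr, hr, map_mul, map_mul])⟩,
    hinj (by rw [hr, map_zero, map_zero, map_zero]),
    fun a b => hinj (by rw [map_add, hr, hr, hr, map_add, map_add])⟩, ?_⟩
  exact RingHom.ext fun a => hinj ((hr (f a)).trans (hψ a))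

/-- Unique factorization of `q` through integral `N η`-isomorphisms. -/
theorem existsUnique_lift (g : A →+* B) (hg : g.IsIntegral) (hN : Function.Bijective (η.Nmap g)) :
    ∃! g' : B →+* η.M A, g'.comp g = η.q A := by
  let e := RingEquiv.ofBijective (η.Nmap g) hN
  have hmem : ∀ b, e.symm.toRingHom.comp (η.t B) b ∈ η.M A := fun b =>
    mem_M_of_Nmap_mem η g hg (bijective_comap_of_bijective_Nmap η g hN).2 <| by
      change e (e.symm (η.t B b)) ∈ η.M B
      rw [RingEquiv.apply_symm_apply]; exact η.t_mem_M B b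
  refine ⟨(e.symm.toRingHom.comp (η.t B)).codRestrict (η.M A) hmem, ?_, ?_⟩
  · refine RingHom.ext fun a => Subtype.ext ?_
    change e.symm (η.t B (g a)) = η.t A a
    rw [← Nmap_t η g a]; exact e.symm_apply_apply _
  · intro g'' hg''
    refine RingHom.ext fun b => Subtype.ext (funext fun p => ?_)
    refine RingHom.congr_fun (hom_ext_of_bijective_Nmap η g hN ((evM η p).comp g'')
      ((evM η p).comp ((e.symm.toRingHom.comp (η.t B)).codRestrict (η.M A) hmem)) ?_) b
    refine RingHom.ext fun a => ?_
    have h1 : g'' (g a) = η.q A a := RingHom.congr_fun hg'' a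
    change evM η p (g'' (g a)) = (e.symm (η.t B (g a)) : η.N A) p
    rw [h1, ← Nmap_t η g a, show η.Nmap g (η.t A a) = e (η.t A a) from rfl, e.symm_apply_apply]
    rfl

/-- Endomorphisms of `B` over `A` are trivial when `B` is reduced and `N(g)` is bijective. -/
theorem endo_eq_id [IsReduced B] (g : A →+* B) (hN : Function.Bijective (η.Nmap g)) (e : B →+* B)
    (he : e.comp g = g) : e = RingHom.id B := by
  refine RingHom.ext fun b => sub_eq_zero.mp (IsReduced.eq_zero _ (nilpotent_iff_mem_prime.mpr ?_))
  intro P hP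
  have h := hom_ext_of_bijective_Nmap η g hN ((algebraMap B P.ResidueField).comp e)
    (algebraMap B P.ResidueField) (by rw [RingHom.comp_assoc, he])
  rw [← Ideal.algebraMap_residueField_eq_zero, map_sub, sub_eq_zero]
  exact RingHom.congr_fun h b

instance : IsReduced (η.M A) := isReduced_of_injective (η.M A).subtype Subtype.val_injective

theorem bijective_q_M (hA : (minimalPrimes A).Finite) : Function.Bijective (η.q (η.M A)) := by
  obtain ⟨-, -, hN, hc⟩ := q_retraction η hA
  refine ⟨fun x y h => t_injective η (congrArg Subtype.val h), fun y => ?_⟩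
  obtain ⟨x, hx, hxy⟩ := (bijOn_M η (η.q A) (isIntegral_q η hA) hN).2.2 y.2
  exact ⟨⟨x, hx⟩, Subtype.ext ((hc ⟨x, hx⟩).symm.trans hxy)⟩

theorem bijective_of_isIntegral (hA : (minimalPrimes A).Finite) [IsReduced B] (f : η.M A →+* B)
    (hf : f.IsIntegral) (hN : Function.Bijective (η.Nmap f)) : Function.Bijective f := by
  obtain ⟨-, -, hNq, -⟩ := q_retraction η hA
  have hg : (f.comp (η.q A)).IsIntegral := RingHom.IsIntegral.trans _ _ (isIntegral_q η hA) hf
  have hNg : Function.Bijective (η.Nmap (f.comp (η.q A))) := by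
    have : ⇑(η.Nmap (f.comp (η.q A))) = η.Nmap f ∘ η.Nmap (η.q A) :=
      funext fun x => Nmap_comp η f (η.q A) x
    rw [this]; exact hN.comp hNq
  obtain ⟨g', hg', -⟩ := existsUnique_lift η (f.comp (η.q A)) hg hNg
  have hg'' : g'.comp (f.comp (η.q A)) = η.q A := hg'
  have h1 : g'.comp f = RingHom.id _ := endo_eq_id η (η.q A) hNq _ (by rw [RingHom.comp_assoc, hg''])
  have h2 : f.comp g' = RingHom.id _ :=
    endo_eq_id η (f.comp (η.q A)) hNg _ (by rw [RingHom.comp_assoc, hg''])
  exact Function.bijective_iff_has_inverse.mpr ⟨g', RingHom.congr_fun h1, RingHom.congr_fun h2⟩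

end Groth.Agent.EtaPtLib
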