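import Groth.Agent.EtaPt.Integral

/-!
# The relative ring `rel η f`
-/

universe u

open EtaPt Groth.Agent.EtaPtLib
open scoped Polynomial

namespace Groth.Agent.EtaPtLib

variable (η : FieldEndo.{u}) {A B C : Type u} [CommRing A] [CommRing B] [CommRing C]

theorem mem_rel_iff (f : A →+* B) (b : B) :
    b ∈ η.rel f ↔ ∃ x ∈ η.M A, η.Nmap f x = η.t B b := Iff.rfl

/-- `rel η f → N η A`, the unique element with image `t b`. -/
theorem exists_sigma (f : A →+* B) (hs : Function.Surjective (PrimeSpectrum.comap f)) :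
    ∃ σ : η.rel f →+* η.N A, (∀ b, σ b ∈ η.M A) ∧ (∀ b, η.Nmap f (σ b) = η.t B b) ∧
      σ.comp (η.qRel f) = η.t A := by
  have hi := injective_Nmap η f hs
  let e := (η.M A).equivMapOfInjective (η.Nmap f) hi
  let θ : η.rel f →+* (η.M A).map (η.Nmap f) :=
    ((η.t B).comp (η.rel f).subtype).codRestrict _ fun b => b.2
  have key : ∀ b, η.Nmap f ((e.symm (θ b) : η.M A) : η.N A) = η.t B b := fun b => by
    rw [← Subring.coe_equivMapOfInjective_apply (η.M A) (η.Nmap f) hi]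
    exact congrArg Subtype.val (e.apply_symm_apply (θ b))
  refine ⟨(η.M A).subtype.comp (e.symm.toRingHom.comp θ), fun b => (e.symm (θ b)).2, key,
    RingHom.ext fun a => hi ?_⟩
  rw [Nmap_t]
  exact key (η.qRel f a)

theorem isIntegral_qRel (hA : (minimalPrimes A).Finite) (f : A →+* B) : (η.qRel f).IsIntegral := by
  intro b
  obtain ⟨x, hx, hxb⟩ := (mem_rel_iff η f b).mp b.2
  obtain ⟨H, hH, hH'⟩ := exists_monic_of_mem_M η hA hx
  have h1 := congrArg (η.Nmap f) hH'
  rw [Polynomial.hom_eval₂, map_zero, hxb,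
    show (η.Nmap f).comp (η.t A) = (η.t B).comp f from RingHom.ext (Nmap_t η f),
    ← Polynomial.hom_eval₂, t_eq_zero_iff] at h1
  obtain ⟨n, hn⟩ := h1
  refine ⟨H ^ n, hH.pow n, Subtype.ext ?_⟩
  rw [← Subring.coe_subtype, Polynomial.hom_eval₂, Polynomial.eval₂_pow]
  exact hn

theorem injective_comap_qRel (hA : (minimalPrimes A).Finite) (f : A →+* B)
    (hs : Function.Surjective (PrimeSpectrum.comap f)) :
    Function.Injective (PrimeSpectrum.comap (η.qRel f)) := by
  obtain ⟨σ, hσM, hσ, hσq⟩ := exists_sigma η f hs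
  let σM : η.rel f →+* η.M A := σ.codRestrict (η.M A) hσM
  have hq : σM.comp (η.qRel f) = η.q A :=
    RingHom.ext fun a => Subtype.ext (RingHom.congr_fun hσq a)
  have hint : σM.IsIntegral := RingHom.IsIntegral.tower_top (η.qRel f) σM (hq ▸ isIntegral_q η hA)
  have hsurj := comap_surjective_of_isIntegral_of_nil σM hint fun b hb => by
    have h1 : σ b = 0 := congrArg Subtype.val hb
    have h2 := hσ b
    rw [h1, map_zero, eq_comm, t_eq_zero_iff] at h2
    exact (IsNilpotent.map_iff (f := (η.rel f).subtype) Subtype.val_injective).mp h2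
  intro Q Q' h
  obtain ⟨U, rfl⟩ := hsurj Q
  obtain ⟨U', rfl⟩ := hsurj Q'
  rw [← PrimeSpectrum.comap_comp_apply, ← PrimeSpectrum.comap_comp_apply, hq] at h
  rw [injective_comap_q η hA h]

theorem qRel_retraction (hA : (minimalPrimes A).Finite) (f : A →+* B)
    (hs : Function.Surjective (PrimeSpectrum.comap f)) :
    Function.Bijective (PrimeSpectrum.comap (η.qRel f)) ∧
    (∀ Q : PrimeSpectrum (η.rel f), ∃ φ : Q.asIdeal.ResidueField →+*
        η.obj (PrimeSpectrum.comap (η.qRel f) Q).asIdeal.ResidueField,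
      φ.comp (Ideal.ResidueField.map (PrimeSpectrum.comap (η.qRel f) Q).asIdeal Q.asIdeal (η.qRel f) rfl) =
        η.eta (PrimeSpectrum.comap (η.qRel f) Q).asIdeal.ResidueField) ∧
    Function.Bijective (η.Nmap (η.qRel f)) := by
  obtain ⟨σ, -, -, hσq⟩ := exists_sigma η f hs
  obtain ⟨h1, h2, h3, -⟩ := of_retraction η (η.qRel f) σ hσq (injective_comap_qRel η hA f hs)
  exact ⟨h1, h2, h3⟩

theorem range_le_rel {B' : Type u} [CommRing B'] (f₁ : A →+* B') (f₂ : B' →+* B) (h₁ : f₁.IsIntegral)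
    (hN : Function.Bijective (η.Nmap f₁)) : f₂.range ≤ η.rel (f₂.comp f₁) := by
  rintro - ⟨b, rfl⟩
  obtain ⟨x, hx, hxb⟩ := (bijOn_M η f₁ h₁ hN).2.2 (η.t_mem_M B' b)
  exact (mem_rel_iff η _ _).mpr ⟨x, hx, by rw [Nmap_comp, hxb, Nmap_t]⟩

theorem bijective_qRel_iff (f : A →+* B) :
    Function.Bijective (η.qRel f) ↔ Function.Injective f ∧ ∀ b ∈ η.rel f, ∃ a, f a = b := by
  constructor
  · intro h
    refine ⟨fun a b hab => h.1 (Subtype.ext hab), fun b hb => ?_⟩
    obtain ⟨a, ha⟩ := h.2 ⟨b, hb⟩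
    exact ⟨a, congrArg Subtype.val ha⟩
  · rintro ⟨h1, h2⟩
    refine ⟨fun a b hab => h1 (congrArg Subtype.val hab), fun b => ?_⟩
    obtain ⟨a, ha⟩ := h2 b b.2
    exact ⟨a, Subtype.ext ha⟩

theorem bijective_qRel_comp (f : A →+* B) (g : B →+* C) (hg : Function.Surjective (PrimeSpectrum.comap g))
    (hqf : Function.Bijective (η.qRel f)) (hqg : Function.Bijective (η.qRel g)) :
    Function.Bijective (η.qRel (g.comp f)) := by
  rw [bijective_qRel_iff] at hqf hqg ⊢
  refine ⟨hqg.1.comp hqf.1, fun c hc => ?_⟩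
  obtain ⟨x, hx, hxc⟩ := (mem_rel_iff η _ c).mp hc
  rw [Nmap_comp] at hxc
  obtain ⟨b, rfl⟩ := hqg.2 c ((mem_rel_iff η g c).mpr ⟨_, Nmap_mem_M η f hx, hxc⟩)
  rw [← Nmap_t η g] at hxc
  obtain ⟨a, rfl⟩ := hqf.2 b ((mem_rel_iff η f b).mpr ⟨x, hx, injective_Nmap η g hg hxc⟩)
  exact ⟨a, rfl⟩

theorem bijective_qRel_of_comp (f : A →+* B) (g : B →+* C) (hg : Function.Injective g)
    (h : Function.Bijective (η.qRel (g.comp f))) : Function.Bijective (η.qRel f) := by
  rw [bijective_qRel_iff] at h ⊢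
  refine ⟨Function.Injective.of_comp (f := g) h.1, fun b hb => ?_⟩
  obtain ⟨x, hx, hxb⟩ := (mem_rel_iff η f b).mp hb
  obtain ⟨a, ha⟩ := h.2 (g b) ((mem_rel_iff η _ _).mpr ⟨x, hx, by rw [Nmap_comp, hxb, Nmap_t]⟩)
  exact ⟨a, hg ha⟩

theorem bijective_qRel_of_cartesian {A' B' : Type u} [CommRing A'] [CommRing B']
    (j : A →+* B) (f : A →+* A') (g : B →+* B') (j' : A' →+* B') (hcomm : j'.comp f = g.comp j)
    (hcart : ∀ (a' : A') (b : B), j' a' = g b → ∃! a : A, f a = a' ∧ j a = b)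
    (h : Function.Bijective (η.qRel j')) : Function.Bijective (η.qRel j) := by
  rw [bijective_qRel_iff] at h ⊢
  refine ⟨(injective_iff_map_eq_zero j).mpr fun a ha => ?_, fun b hb => ?_⟩
  · have hfa : f a = 0 := h.1 (by rw [map_zero, ← RingHom.comp_apply, hcomm, RingHom.comp_apply, ha, map_zero])
    exact (hcart 0 0 (by rw [map_zero, map_zero])).unique ⟨hfa, ha⟩ ⟨map_zero f, map_zero j⟩
  · obtain ⟨x, hx, hxb⟩ := (mem_rel_iff η j b).mp hb
    obtain ⟨a', ha'⟩ := h.2 (g b) ((mem_rel_iff η _ _).mpr ⟨η.Nmap f x, Nmap_mem_M η f hx, by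
      rw [← Nmap_comp, hcomm, Nmap_comp, hxb, Nmap_t]⟩)
    obtain ⟨a, ⟨-, ha⟩, -⟩ := hcart a' b ha'
    exact ⟨a, ha⟩

/-- Every minimal prime of `A` is in the image of `Spec` of an injective map. -/
theorem exists_comap_eq_of_minimal (f : A →+* B) (hf : Function.Injective f) (P : PrimeSpectrum A)
    (hP : P.asIdeal ∈ minimalPrimes A) : ∃ Q, PrimeSpectrum.comap f Q = P := by
  have h0 : P.asIdeal ∈ (Ideal.comap f (⊥ : Ideal B)).minimalPrimes := by
    have : Ideal.comap f (⊥ : Ideal B) = ⊥ := by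
      rw [← RingHom.ker_eq_comap_bot]; exact (RingHom.injective_iff_ker_eq_bot f).mp hf
    rw [this]; exact hP
  obtain ⟨Q, hQ, -, hQP⟩ := Ideal.exists_comap_eq_of_mem_minimalPrimes f P.asIdeal h0
  exact ⟨⟨Q, hQ⟩, PrimeSpectrum.ext hQP⟩

theorem rel_integralClosure [Algebra A B] (hA : (minimalPrimes A).Finite)
    (hs : Function.Surjective (PrimeSpectrum.comap (algebraMap A B))) :
    (η.rel (algebraMap A (integralClosure A B))).map (integralClosure A B).val.toRingHom =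
      η.rel (algebraMap A B) := by
  have hι : (integralClosure A B).val.toRingHom.comp (algebraMap A (integralClosure A B)) = algebraMap A B :=
    RingHom.ext fun _ => rfl
  have hN : ∀ x, η.Nmap (algebraMap A B) x =
      η.Nmap (integralClosure A B).val.toRingHom (η.Nmap (algebraMap A (integralClosure A B)) x) :=
    fun x => by rw [← Nmap_comp, hι]
  refine le_antisymm ?_ fun b hb => ?_
  · rintro - ⟨c, hc, rfl⟩
    obtain ⟨x, hx, hxc⟩ := (mem_rel_iff η _ c).mp hc
    exact (mem_rel_iff η _ _).mpr ⟨x, hx, by rw [hN, hxc, Nmap_t]⟩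
  · have hint : IsIntegral A b := by
      obtain ⟨H, hH, hH'⟩ := isIntegral_qRel η hA (algebraMap A B) ⟨b, hb⟩
      refine ⟨H, hH, ?_⟩
      have := congrArg (η.rel (algebraMap A B)).subtype hH'
      rw [Polynomial.hom_eval₂, map_zero] at this
      exact this
    obtain ⟨x, hx, hxb⟩ := (mem_rel_iff η _ b).mp hb
    refine ⟨⟨b, hint⟩, (mem_rel_iff η _ _).mpr ⟨x, hx, ?_⟩, rfl⟩
    refine M_ext η (Nmap_mem_M η _ hx) (η.t_mem_M _ _) fun P hP => ?_
    obtain ⟨Q, rfl⟩ := exists_comap_eq_of_minimal (integralClosure A B).val.toRingHom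
      Subtype.val_injective P hP
    rw [hN, show η.t B b = η.t B ((integralClosure A B).val.toRingHom ⟨b, hint⟩) from rfl,
      ← Nmap_t η] at hxb
    exact (η.map _).injective (congrFun hxb Q)

end Groth.Agent.EtaPtLib
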