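import Groth.Agent.EtaPt.Rel
import Groth.Prelude.Def_EGA4b
import Mathlib.RingTheory.LocalProperties.Reduced

/-!
# `M η` of fields, products, normal rings
-/

universe u

open EtaPt Groth.Agent.EtaPtLib
open scoped Polynomial

namespace Groth.Agent.EtaPtLib

variable (η : FieldEndo.{u}) {A B : Type u} [CommRing A] [CommRing B]

theorem mem_M_field (K : Type u) [Field K] (x : η.N K) : x ∈ η.M K := by
  refine (mem_M_iff η x).mpr fun R _ _ _ hR g => ?_
  haveI := isIntegrallyClosed_of_valuationRing R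
  set y := ev η (RingHom.id K) x
  have hev : ∀ (E : Type u) [Field E] (f : K →+* E), ev η f x = η.map f y := fun E _ f => by
    rw [← ev_comp, RingHom.comp_id]
  have := ringExpChar.expChar K
  obtain ⟨n, a, ha⟩ := η.exists_pow_mem_range_eta K y
  set q := ringExpChar K ^ n with hq
  obtain ⟨k, hk⟩ := hR.2 (η.map ((algebraMap R (FractionRing R)).comp g) y)
  have hkq : k ^ q = algebraMap R (FractionRing R) (g a) := by
    refine (η.eta _).injective ?_
    rw [map_pow, hk, ← map_pow, ← ha, map_eta_apply]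
    rfl
  obtain ⟨r, rfl⟩ := IsIntegrallyClosed.exists_algebraMap_eq_of_isIntegral_pow
    (pow_pos (expChar_pos K (ringExpChar K)) n) (hkq ▸ isIntegral_algebraMap)
  have hrq : r ^ q = g a := IsFractionRing.injective R (FractionRing R) (by rw [map_pow]; exact hkq)
  refine ⟨r, fun E _ h => ?_⟩
  rw [hev]
  have : ExpChar (η.obj E) (ringExpChar K) :=
    expChar_of_injective_ringHom ((η.eta E).comp (h.comp g)).injective (ringExpChar K)
  apply iterateFrobenius_inj (η.obj E) (ringExpChar K) n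
  simp only [iterateFrobenius_def, ← hq]
  rw [← map_pow, ← ha, map_eta_apply, ← map_pow, ← map_pow, hrq]
  rfl

/-- `η` at the residue field of the zero ideal of a domain in `V_η`. -/
theorem bijective_eta_residueField_bot [IsDomain A] (hA : η.InV A) :
    Function.Bijective (η.eta (⊥ : Ideal A).ResidueField) := by
  have hker : RingHom.ker (algebraMap A (⊥ : Ideal A).ResidueField) = ⊥ := Ideal.ker_algebraMap_residueField _
  let ι : FractionRing A →+* (⊥ : Ideal A).ResidueField :=
    IsFractionRing.lift ((RingHom.injective_iff_ker_eq_bot _).mpr hker)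
  let ρ : (⊥ : Ideal A).ResidueField →+* FractionRing A :=
    rfLift (algebraMap A _) ⊥ ((RingHom.injective_iff_ker_eq_bot _).mp (IsFractionRing.injective A _))
  have hρ : ι.comp ρ = RingHom.id _ := residueField_hom_ext <| RingHom.ext fun a => by
    simp [ι, ρ]
  exact bijective_eta_of_bijective η ι ⟨ι.injective, fun z => ⟨ρ z, RingHom.congr_fun hρ z⟩⟩ hA

theorem bijective_q_of_isIntegrallyClosed [IsDomain A] [IsIntegrallyClosed A] (hA : η.InV A) :
    Function.Bijective (η.q A) := by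
  refine ⟨fun x y h => t_injective η (congrArg Subtype.val h), fun x => ?_⟩
  let P : PrimeSpectrum A := ⟨⊥, Ideal.isPrime_bot⟩
  obtain ⟨z, hz⟩ := (bijective_eta_residueField_bot η hA).2 ((x : η.N A) P)
  let ρ : P.asIdeal.ResidueField →+* FractionRing A :=
    rfLift (algebraMap A _) ⊥ ((RingHom.injective_iff_ker_eq_bot _).mp (IsFractionRing.injective A _))
  obtain ⟨H, hH, hH'⟩ := isIntegralElem_component η x.2 P
  rw [etaPt, ← hz, ← Polynomial.hom_eval₂, map_eq_zero] at hH'
  have h2 := congrArg ρ hH'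
  rw [Polynomial.hom_eval₂, map_zero, rfLift_comp] at h2
  obtain ⟨a, ha⟩ := IsIntegrallyClosed.isIntegral_iff.mp (⟨H, hH, h2⟩ : IsIntegral A (ρ z))
  refine ⟨a, Subtype.ext (injective_eval_bot η (η.t_mem_M A a) x.2 ?_)⟩
  change η.eta _ (algebraMap A P.asIdeal.ResidueField a) = (x : η.N A) P
  rw [← hz]
  refine congrArg _ (ρ.injective ?_)
  rw [← ha]
  exact rfLift_algebraMap ..

theorem comp_fst_or_snd {R : Type u} [CommRing R] [IsDomain R] (g : A × B →+* R) :
    (∃ g' : A →+* R, g'.comp (RingHom.fst A B) = g) ∨ (∃ g' : B →+* R, g'.comp (RingHom.snd A B) = g) := by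
  have hmul : g (1, 0) * g (0, 1) = 0 := by rw [← map_mul]; simp [Prod.mk_zero_zero]
  have hadd : g (1, 0) + g (0, 1) = 1 := by rw [← map_add]; simp [Prod.mk_one_one]
  rcases mul_eq_zero.mp hmul with h | h
  · refine .inr ⟨⟨⟨⟨fun b => g (0, b), by simpa [h] using hadd⟩, fun a b => ?_⟩, ?_, fun a b => ?_⟩, ?_⟩
    · rw [← map_mul, Prod.mk_mul_mk, mul_zero]
    · show g ((0 : A), (0 : B)) = 0
      rw [Prod.mk_zero_zero, map_zero]
    · first
        | (show g ((0 : A), a + b) = g ((0 : A), a) + g ((0 : A), b)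
           rw [← map_add, Prod.mk_add_mk, add_zero])
        | (show g (a + b, (0 : B)) = g (a, (0 : B)) + g (b, (0 : B))
           rw [← map_add, Prod.mk_add_mk, add_zero])
    · refine RingHom.ext fun ⟨a, b⟩ => ?_
      change g (0, b) = g (a, b)
      have : (a, b) = (a, 0) * (1, 0) + (0, b) := by simp
      rw [this, map_add, map_mul, h, mul_zero, zero_add]
  · refine .inl ⟨⟨⟨⟨fun a => g (a, 0), by simpa [h] using hadd⟩, fun a b => ?_⟩, ?_, fun a b => ?_⟩, ?_⟩
    · rw [← map_mul, Prod.mk_mul_mk, mul_zero]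
    · show g ((0 : A), (0 : B)) = 0
      rw [Prod.mk_zero_zero, map_zero]
    · first
        | (show g ((0 : A), a + b) = g ((0 : A), a) + g ((0 : A), b)
           rw [← map_add, Prod.mk_add_mk, add_zero])
        | (show g (a + b, (0 : B)) = g (a, (0 : B)) + g (b, (0 : B))
           rw [← map_add, Prod.mk_add_mk, add_zero])
    · refine RingHom.ext fun ⟨a, b⟩ => ?_
      change g (a, 0) = g (a, b)
      have : (a, b) = (0, b) * (0, 1) + (a, 0) := by simp
      rw [this, map_add, map_mul, h, mul_zero, zero_add]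

theorem bijOn_prod :
    Set.BijOn (fun x : η.N (A × B) => (η.Nmap (RingHom.fst A B) x, η.Nmap (RingHom.snd A B) x))
      (η.M (A × B)) ((η.M A : Set (η.N A)) ×ˢ (η.M B : Set (η.N B))) := by
  refine ⟨fun x hx => ⟨Nmap_mem_M η _ hx, Nmap_mem_M η _ hx⟩, fun x _ y _ h => N_ext η fun p => ?_, ?_⟩
  · rcases comp_fst_or_snd (algebraMap (A × B) p.asIdeal.ResidueField) with ⟨g', hg'⟩ | ⟨g', hg'⟩
    · rw [← hg', ← ev_Nmap, ← ev_Nmap]
      exact congrArg (ev η g') (congrArg Prod.fst h)
    · rw [← hg', ← ev_Nmap, ← ev_Nmap]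
      exact congrArg (ev η g') (congrArg Prod.snd h)
  · rintro ⟨xa, xb⟩ ⟨hxa, hxb⟩
    have h1 : Function.Surjective (RingHom.fst A B) := fun a => ⟨(a, 0), rfl⟩
    have h2 : Function.Surjective (RingHom.snd A B) := fun b => ⟨(0, b), rfl⟩
    obtain ⟨za, hza⟩ := surjective_Nmap_of_surjectiveOnStalks η _
      (PrimeSpectrum.comap_injective_of_surjective _ h1) (RingHom.surjectiveOnStalks_of_surjective h1) xa
    obtain ⟨zb, hzb⟩ := surjective_Nmap_of_surjectiveOnStalks η _
      (PrimeSpectrum.comap_injective_of_surjective _ h2) (RingHom.surjectiveOnStalks_of_surjective h2) xb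
    let z := za * η.t _ ((1 : A), (0 : B)) + zb * η.t _ ((0 : A), (1 : B))
    have ha : η.Nmap (RingHom.fst A B) z = xa := by
      simp [z, hza, Nmap_t]
    have hb : η.Nmap (RingHom.snd A B) z = xb := by
      simp [z, hzb, Nmap_t]
    refine ⟨z, fun R _ _ _ hR g => ?_, Prod.ext ha hb⟩
    rcases comp_fst_or_snd g with ⟨g', hg'⟩ | ⟨g', hg'⟩
    · rw [← hg', Nmap_comp, ha]; exact hxa R hR g'
    · rw [← hg', Nmap_comp, hb]; exact hxb R hR g'

theorem bijective_q_of_isNormalRing (hn : EGA4.IsNormalRing A) (hA : (minimalPrimes A).Finite)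
    (hη : ∀ p : PrimeSpectrum A, p.asIdeal ∈ minimalPrimes A →
      Function.Bijective (η.eta p.asIdeal.ResidueField)) : Function.Bijective (η.q A) := by
  classical
  haveI : IsReduced A := isReduced_ofLocalizationMaximal A fun m hm => by
    haveI := (hn m).1
    infer_instance
  refine ⟨fun x y h => t_injective η (congrArg Subtype.val h), fun x => ?_⟩
  suffices h : ∃ a, η.t A a = (x : η.N A) by
    obtain ⟨a, ha⟩ := h
    exact ⟨a, Subtype.ext ha⟩
  let J : Ideal A :=
    { carrier := {s | ∃ a, η.t A a = η.t A s * x}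
      add_mem' := by
        rintro s s' ⟨a, ha⟩ ⟨a', ha'⟩
        exact ⟨a + a', by rw [map_add, map_add, ha, ha', add_mul]⟩
      zero_mem' := ⟨0, by rw [map_zero, zero_mul]⟩
      smul_mem' := by
        rintro c s ⟨a, ha⟩
        exact ⟨c * a, by rw [map_mul, ha, smul_eq_mul, map_mul, mul_assoc]⟩ }
  suffices hJ : J = ⊤ by
    obtain ⟨a, ha⟩ : (1 : A) ∈ J := hJ ▸ Submodule.mem_top
    exact ⟨a, by rw [ha, map_one, one_mul]⟩
  by_contra hJ
  obtain ⟨p, hp, hJp⟩ := Ideal.exists_le_maximal J hJ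
  obtain ⟨hdom, hic⟩ := hn p
  haveI := hdom
  haveI := hic
  set K := FractionRing (Localization.AtPrime p)
  let φ : A →+* K := (algebraMap (Localization.AtPrime p) K).comp (algebraMap A _)
  have hφ : ∀ a, φ a = 0 ↔ algebraMap A (Localization.AtPrime p) a = 0 := fun a =>
    map_eq_zero_iff _ (IsFractionRing.injective (Localization.AtPrime p) K)
  let P : PrimeSpectrum A := kerPt φ
  have hPp : P.asIdeal ≤ p := fun a ha => by
    by_contra hap
    exact (IsLocalization.map_units (Localization.AtPrime p) (⟨a, hap⟩ : p.primeCompl)).ne_zero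
      ((hφ a).mp ha)
  have hleast : ∀ P' : Ideal A, P'.IsPrime → P' ≤ p → P.asIdeal ≤ P' := fun P' hP' hle a ha => by
    obtain ⟨⟨u, hu⟩, hua⟩ := (IsLocalization.map_eq_zero_iff p.primeCompl _ a).mp ((hφ a).mp ha)
    have : u * a ∈ P' := by rw [show u * a = 0 from hua]; exact zero_mem _
    exact (hP'.mem_or_mem this).resolve_left fun h => hu (hle h)
  have hPmin : P.asIdeal ∈ minimalPrimes A :=
    ⟨⟨P.isPrime, bot_le⟩, fun P' hP' hle => hleast P' hP'.1 (hle.trans hPp)⟩
  obtain ⟨z, hz⟩ := (hη P hPmin).2 ((x : η.N A) P)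
  let ρ : P.asIdeal.ResidueField →+* K := rfLift φ P.asIdeal (kerPt_ker φ)
  obtain ⟨H, hH, hH'⟩ := isIntegralElem_component η x.2 P
  rw [etaPt, ← hz, ← Polynomial.hom_eval₂, map_eq_zero] at hH'
  have h2 := congrArg ρ hH'
  rw [Polynomial.hom_eval₂, map_zero, rfLift_comp] at h2
  have hint : IsIntegral (Localization.AtPrime p) (ρ z) :=
    ⟨H.map (algebraMap A _), hH.map _, by rw [Polynomial.eval₂_map]; exact h2⟩
  obtain ⟨w, hw⟩ := IsIntegrallyClosed.isIntegral_iff.mp hint
  obtain ⟨⟨a, s, hs⟩, has⟩ := IsLocalization.surj p.primeCompl w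
  have hsz : algebraMap A P.asIdeal.ResidueField s * z = algebraMap A _ a := by
    refine ρ.injective ?_
    rw [map_mul, rfLift_algebraMap, rfLift_algebraMap]
    have h3 := congrArg (algebraMap (Localization.AtPrime p) K) has
    rw [map_mul, hw, mul_comm] at h3
    exact h3
  -- an element in all minimal primes but `P`, outside `p`
  obtain ⟨c, hcp, hc⟩ : ∃ c ∉ p, ∀ P' ∈ minimalPrimes A, P' ≠ P.asIdeal → c ∈ P' := by
    have hnle : ¬ (hA.toFinset.erase P.asIdeal).inf id ≤ p := fun h => by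
      obtain ⟨P', hP', hle⟩ := (Ideal.IsPrime.inf_le' hp.isPrime).mp h
      rw [Finset.mem_erase, hA.mem_toFinset] at hP'
      exact hP'.1 (le_antisymm (hP'.2.2 ⟨P.isPrime, bot_le⟩ (hleast P' hP'.2.1.1 hle))
        (hleast P' hP'.2.1.1 hle))
    obtain ⟨c, hc, hcp⟩ := SetLike.not_le_iff_exists.mp hnle
    refine ⟨c, hcp, fun P' hP' hne => ?_⟩
    exact (Submodule.mem_finsetInf.mp hc) P' (Finset.mem_erase.mpr ⟨hne, hA.mem_toFinset.mpr hP'⟩)
  refine (hp.isPrime.mem_or_mem (hJp (⟨c * a, ?_⟩ : c * s ∈ J))).elim hcp hs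
  refine M_ext η (η.t_mem_M A _) (mul_mem (η.t_mem_M A _) x.2) fun P' hP' => ?_
  change η.eta _ (algebraMap A P'.asIdeal.ResidueField (c * a)) =
    η.eta _ (algebraMap A P'.asIdeal.ResidueField (c * s)) * (x : η.N A) P'
  by_cases hne : P' = P
  · subst hne
    rw [← hz, ← map_mul (η.eta _), map_mul (algebraMap A _), map_mul (algebraMap A _), mul_assoc, hsz]
  · have h0 : algebraMap A P'.asIdeal.ResidueField c = 0 :=
      Ideal.algebraMap_residueField_eq_zero.mpr
        (hc _ hP' fun h => hne (PrimeSpectrum.ext h))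
    rw [map_mul (algebraMap A _) c a, map_mul (algebraMap A _) c s, h0, zero_mul, zero_mul, map_zero, zero_mul]

end Groth.Agent.EtaPtLib
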