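import Groth.Agent.EtaPt.Special
import Mathlib.FieldTheory.Perfect
import Mathlib.RingTheory.Valuation.ValuationRing

/-!
# `M η R` for a valuation ring `R`
-/

universe u

open EtaPt Groth.Agent.EtaPtLib
open scoped Polynomial

namespace Groth.Agent.EtaPtLib

variable (η : FieldEndo.{u}) {R : Type u} [CommRing R] [IsDomain R] [ValuationRing R]

theorem eval_bot_image (hη : η.InV R ∨ ∀ (k : Type u) [Field k], ringChar k = ringChar R →
      Function.Bijective (η.eta k) → PerfectField k) :
    (fun x : η.N R => x ⟨⊥, Ideal.isPrime_bot⟩) '' (η.M R : Set (η.N R)) =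
        {y | ((η.eta (⊥ : Ideal R).ResidueField).comp
          (algebraMap R (⊥ : Ideal R).ResidueField)).IsIntegralElem y} := by
  haveI := isIntegrallyClosed_of_valuationRing R
  let P : PrimeSpectrum R := ⟨⊥, Ideal.isPrime_bot⟩
  refine Set.Subset.antisymm ?_ fun y hy => ?_
  · rintro - ⟨x, hx, rfl⟩
    exact isIntegralElem_component η hx P
  let ρ : P.asIdeal.ResidueField →+* FractionRing R :=
    rfLift (algebraMap R _) ⊥ ((RingHom.injective_iff_ker_eq_bot _).mp (IsFractionRing.injective R _))
  have hdescend : ∀ z : P.asIdeal.ResidueField, (algebraMap R P.asIdeal.ResidueField).IsIntegralElem z →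
      ∃ a, algebraMap R P.asIdeal.ResidueField a = z := by
    rintro z ⟨H, hH, hH'⟩
    have h2 := congrArg ρ hH'
    rw [Polynomial.hom_eval₂, map_zero, rfLift_comp] at h2
    obtain ⟨a, ha⟩ := IsIntegrallyClosed.isIntegral_iff.mp (⟨H, hH, h2⟩ : IsIntegral R (ρ z))
    exact ⟨a, ρ.injective ((rfLift_algebraMap ..).trans ha)⟩
  have hint : ∀ (z : P.asIdeal.ResidueField), (etaPt η P).IsIntegralElem (η.eta _ z) →
      (algebraMap R P.asIdeal.ResidueField).IsIntegralElem z := by
    rintro z ⟨H, hH, hH'⟩
    rw [etaPt, ← Polynomial.hom_eval₂, map_eq_zero] at hH'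
    exact ⟨H, hH, hH'⟩
  rcases hη with hV | hperf
  · obtain ⟨z, rfl⟩ := (bijective_eta_residueField_bot η hV).2 y
    obtain ⟨a, rfl⟩ := hdescend z (hint z hy)
    exact ⟨η.t R a, η.t_mem_M R a, rfl⟩
  have := ringExpChar.expChar P.asIdeal.ResidueField
  obtain ⟨n, z, hz⟩ := η.exists_pow_mem_range_eta P.asIdeal.ResidueField y
  generalize ringExpChar P.asIdeal.ResidueField = e at this hz
  set q := e ^ n with hq
  obtain ⟨a, rfl⟩ := hdescend z (hint z (by
    rw [hz]
    letI := (etaPt η P).toAlgebra
    exact (IsIntegral.pow (hy : IsIntegral R y) q : IsIntegral R (y ^ q))))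
  haveI hR : ExpChar R e := RingHom.expChar (algebraMap R P.asIdeal.ResidueField)
      ((RingHom.injective_iff_ker_eq_bot _).mpr (Ideal.ker_algebraMap_residueField P.asIdeal)) e
  have hcharP : e ≠ 1 → ∀ (k : Type u) [Field k], (R →+* k) → e.Prime ∧ CharP R e ∧ CharP k e := by
    intro h1 k _ f
    have hprime := (expChar_is_prime_or_one R e).resolve_right h1
    haveI hcR : CharP R e := by
      cases hR with
      | zero => exact absurd rfl h1
      | prime => assumption
    refine ⟨hprime, hcR, (CharP.charP_iff_prime_eq_zero hprime).mpr ?_⟩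
    rw [← map_natCast f, CharP.cast_eq_zero R, map_zero]
  have hinj : ∀ (k : Type u) [Field k], (R →+* k) → ∀ u v : k, u ^ q = v ^ q → u = v := by
    intro k _ f u v huv
    by_cases h1 : e = 1
    · simpa [hq, h1] using huv
    obtain ⟨hprime, -, hk⟩ := hcharP h1 k f
    haveI := hk
    haveI : ExpChar k e := ExpChar.prime hprime
    apply iterateFrobenius_inj k e n
    simpa only [iterateFrobenius_def, ← hq] using huv
  -- `q`-th roots of `a` in fields receiving `R` with bijective `η`
  have hroot : ∀ (k : Type u) [Field k], Function.Bijective (η.eta k) → ∀ f : R →+* k,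
      ∃ w : k, w ^ q = f a := by
    intro k _ hk f
    rcases eq_or_ne n 0 with h0 | h0
    · exact ⟨f a, by rw [hq, h0, pow_zero, pow_one]⟩
    by_cases h1 : e = 1
    · exact ⟨f a, by rw [hq, h1, one_pow, pow_one]⟩
    obtain ⟨hprime, hcR, hck⟩ := hcharP h1 k f
    haveI := Fact.mk hprime
    haveI := hcR
    haveI := hck
    haveI : PerfectField k := hperf k (by
      rw [ringChar.eq k e, ringChar.eq R e]) hk
    haveI : ExpChar k e := ExpChar.prime hprime
    haveI : PerfectRing k e := PerfectField.toPerfectRing _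
    exact (bijective_iterateFrobenius k e n).2 (f a)
  choose x hx using fun p : PrimeSpectrum R =>
    hroot _ (bijective_eta_obj η _) (etaPt η p)
  refine ⟨x, (mem_M_iff η x).mpr fun R' _ _ _ hR' g => ?_, ?_⟩
  · haveI := isIntegrallyClosed_of_valuationRing R'
    obtain ⟨k, hk⟩ := hroot (FractionRing R') hR' ((algebraMap R' _).comp g)
    obtain ⟨r, rfl⟩ := IsIntegrallyClosed.exists_algebraMap_eq_of_isIntegral_pow (R := R') (x := k)
      (pow_pos (expChar_pos P.asIdeal.ResidueField e) n)
      ((hk.symm ▸ isIntegral_algebraMap : IsIntegral R' (k ^ q)))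
    have hrq : r ^ q = g a := IsFractionRing.injective R' (FractionRing R') (by rw [map_pow]; exact hk)
    refine ⟨r, fun E _ h => ?_⟩
    apply hinj (η.obj E) ((η.eta E).comp (h.comp g))
    rw [← map_pow, ← map_pow (η.eta E), ← map_pow h, hrq]
    change η.map _ (x (kerPt (h.comp g)) ^ q) = _
    rw [hx]
    change η.map _ (η.eta _ (algebraMap R _ a)) = _
    rw [map_eta_apply, rfLift_algebraMap]
    rfl
  · apply hinj (η.obj P.asIdeal.ResidueField) (etaPt η P)
    exact (hx P).trans hz

end Groth.Agent.EtaPtLib
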